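import Cfsg.Agent.Lib.Solvable.Basic
import Cfsg.Agent.Lib.Solvable.SchurZassenhaus
import Mathlib.GroupTheory.SchurZassenhaus
import Mathlib.GroupTheory.PGroup
import Mathlib.Data.Nat.Choose.Dvd
import Mathlib.Tactic

/-! Groups whose abelian subgroups of equal order are conjugate: the minimal normal subgroups. -/

set_option autoImplicit false
open scoped Pointwise commutatorElement

namespace Cfsg.Agent.BGroup

open SolvBasic

variable {G : Type*} [Group G]

/-- Abelian subgroups of equal order are conjugate. -/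
def IsB (G : Type*) [Group G] : Prop :=
  ∀ A B : Subgroup G, IsMulCommutative ↥A → IsMulCommutative ↥B → Nat.card ↥A = Nat.card ↥B →
    ∃ g : G, B = MulAut.conj g • A

theorem IsB.of_equiv {G' : Type*} [Group G'] (hB : IsB G) (e : G ≃* G') : IsB G' := by
  intro A B hA hB' hcard
  obtain ⟨g, hg⟩ := hB (A.map e.symm.toMonoidHom) (B.map e.symm.toMonoidHom) inferInstance inferInstance
    (by rw [Subgroup.card_map_of_injective e.symm.injective, Subgroup.card_map_of_injective e.symm.injective, hcard])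
  refine ⟨e g, ?_⟩
  have h := congrArg (Subgroup.map e.toMonoidHom) hg
  rw [map_conjSmul, Subgroup.map_map, Subgroup.map_map] at h
  simpa [Subgroup.map_id, show e.toMonoidHom.comp e.symm.toMonoidHom = MonoidHom.id G' from
    MonoidHom.ext fun x => e.apply_symm_apply x] using h

theorem IsB.mem_of_orderOf_eq [Finite G] (hB : IsB G) {N : Subgroup G} [N.Normal] {x y : G} (hx : x ∈ N)
    (h : orderOf y = orderOf x) : y ∈ N := by
  obtain ⟨g, hg⟩ := hB (Subgroup.zpowers x) (Subgroup.zpowers y) inferInstance inferInstance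
    (by rw [Nat.card_zpowers, Nat.card_zpowers, h])
  have hy : y ∈ MulAut.conj g • Subgroup.zpowers x := hg ▸ Subgroup.mem_zpowers y
  rw [mem_conjSmul] at hy
  have := ‹N.Normal›.conj_mem _ (Subgroup.zpowers_le.2 hx hy) g
  simpa [mul_assoc] using this

variable [Finite G] {p : ℕ} [hp : Fact p.Prime] {M : Subgroup G} [M.Normal]

theorem IsB.mem_of_pow_eq_one (hB : IsB G) (hM1 : M ≠ ⊥) (he : ∀ x ∈ M, x ^ p = 1) {y : G}
    (hy : y ^ p = 1) : y ∈ M := by
  by_cases hy1 : y = 1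
  · exact hy1 ▸ M.one_mem
  obtain ⟨x, hx, hx1⟩ := (Subgroup.bot_or_exists_ne_one M).resolve_left hM1
  exact hB.mem_of_orderOf_eq hx (by rw [orderOf_eq_prime hy hy1, orderOf_eq_prime (he x hx) hx1])

theorem IsB.mem_of_card_ne (hB : IsB G) (hM1 : M ≠ ⊥) [IsMulCommutative M] (he : ∀ x ∈ M, x ^ p = 1)
    (hMp : IsPGroup p M) (hne : Nat.card M ≠ p) {y : G} {j : ℕ} (hy : orderOf y = p ^ j) : y ∈ M := by
  by_cases hj : j ≤ 1
  · refine hB.mem_of_pow_eq_one hM1 he (orderOf_dvd_iff_pow_eq_one.1 (hy ▸ ?_))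
    calc p ^ j ∣ p ^ 1 := pow_dvd_pow p hj
      _ = p := pow_one p
  exfalso
  obtain ⟨k, hk⟩ := IsPGroup.iff_card.1 hMp
  have hk2 : 2 ≤ k := by
    rcases k with _ | _ | k
    · exact absurd (Subgroup.card_eq_one.1 (by simpa using hk)) hM1
    · exact absurd (by simpa using hk) hne
    · omega
  obtain ⟨D, hD⟩ := Sylow.exists_subgroup_card_pow_prime p (hk ▸ pow_dvd_pow p hk2 : p ^ 2 ∣ Nat.card M)
  have hw : orderOf (y ^ p ^ (j - 2)) = p ^ 2 := by
    rw [orderOf_pow_of_dvd (pow_ne_zero _ hp.out.ne_zero) (hy ▸ pow_dvd_pow p (by omega)), hy,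
      Nat.pow_div (by omega) hp.out.pos]
    congr 1; omega
  obtain ⟨g, hg⟩ := hB (D.map M.subtype) (Subgroup.zpowers (y ^ p ^ (j - 2))) inferInstance inferInstance
    (by rw [Subgroup.card_map_of_injective M.subtype_injective, hD, Nat.card_zpowers, hw])
  have hmem : y ^ p ^ (j - 2) ∈ MulAut.conj g • D.map M.subtype := hg ▸ Subgroup.mem_zpowers _
  rw [mem_conjSmul] at hmem
  have h1 := he _ (Subgroup.map_subtype_le D hmem)
  have e : orderOf (g⁻¹ * y ^ p ^ (j - 2) * g) = p ^ 2 := by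
    rw [← hw, ← MulEquiv.orderOf_eq (MulAut.conj g⁻¹) (y ^ p ^ (j - 2)), MulAut.conj_apply, inv_inv]
  have h2 := Nat.le_of_dvd hp.out.pos (e ▸ orderOf_dvd_of_pow_eq_one h1)
  nlinarith [hp.out.two_le]

/-- `M` is the only subgroup of order `p`. -/
def IsUniq (p : ℕ) (M : Subgroup G) : Prop :=
  Nat.card M = p ∧ ∀ y : G, y ^ p = 1 → y ∈ M

theorem IsUniq.le_zpowers (hu : IsUniq p M) {x : G} {j : ℕ} (hx : orderOf x = p ^ (j + 1)) :
    M ≤ Subgroup.zpowers (x ^ p ^ j) := by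
  have ho : orderOf (x ^ p ^ j) = p := by
    rw [orderOf_pow_of_dvd (pow_ne_zero _ hp.out.ne_zero) (hx ▸ pow_dvd_pow p (by omega)), hx,
      Nat.pow_div (by omega) hp.out.pos]
    simp
  have hle : Subgroup.zpowers (x ^ p ^ j) ≤ M := by
    rw [Subgroup.zpowers_le]
    refine hu.2 _ ?_
    rw [← orderOf_dvd_iff_pow_eq_one, ho]
  exact (Subgroup.eq_of_le_of_card_ge hle (by rw [Nat.card_zpowers, ho, hu.1])).ge

theorem IsUniq.commute_mem (hu : IsUniq p M) {x m : G} {j : ℕ} (hx : orderOf x = p ^ j) (hm : m ∈ M) :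
    Commute m x := by
  rcases j with _ | j
  · rw [pow_zero, orderOf_eq_one_iff] at hx
    exact hx ▸ Commute.one_right m
  obtain ⟨i, hi⟩ := Subgroup.mem_zpowers_iff.1 (hu.le_zpowers hx hm)
  exact hi ▸ ((Commute.self_pow x _).symm.zpow_left i)

theorem IsUniq.mem_zpowers (hu : IsUniq p M) : ∀ {i j : ℕ} {a b : G}, orderOf a = p ^ (j + 1) →
    orderOf b = p ^ i → i ≤ j + 1 → Commute a b → b ∈ Subgroup.zpowers a := by
  intro i
  induction i with
  | zero =>
    intro j a b _ hb _ _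
    rw [pow_zero, orderOf_eq_one_iff] at hb
    exact hb ▸ one_mem _
  | succ i ih =>
    intro j a b ha hb hij hab
    have hbp : orderOf (b ^ p) = p ^ i := by
      rw [orderOf_pow_of_dvd hp.out.ne_zero (hb ▸ dvd_pow_self p (by omega)), hb, pow_succ,
        Nat.mul_div_cancel _ hp.out.pos]
    obtain ⟨n, hn⟩ := Subgroup.mem_zpowers_iff.1 (ih ha hbp (by omega) (hab.pow_right p))
    have hdvd : (p : ℤ) ∣ n := by
      by_contra hndvd
      have hco : IsCoprime n ((orderOf a : ℕ) : ℤ) := by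
        rw [ha, Nat.cast_pow]
        exact (((Nat.prime_iff_prime_int.1 hp.out).coprime_iff_not_dvd).2 hndvd).symm.pow_right
      obtain ⟨u, v, huv⟩ := hco
      have hau : a = (b ^ p) ^ u := by
        conv_lhs => rw [← zpow_one a, ← huv, _root_.zpow_add, mul_comm u, mul_comm v, zpow_mul, zpow_mul,
          zpow_natCast, pow_orderOf_eq_one, one_zpow, mul_one, hn]
      have h1 : orderOf a ∣ orderOf (b ^ p) := by
        rw [← Nat.card_zpowers, ← Nat.card_zpowers]
        exact Subgroup.card_dvd_of_le (Subgroup.zpowers_le.2 ⟨u, hau.symm⟩)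
      rw [ha, hbp, Nat.pow_dvd_pow_iff_le_right hp.out.one_lt] at h1
      omega
    obtain ⟨k, rfl⟩ := hdvd
    have hm : b * (a ^ k)⁻¹ ∈ M := hu.2 _ (by
      rw [(hab.symm.zpow_right k).inv_right.mul_pow, inv_pow, ← zpow_natCast (a ^ k), ← zpow_mul, mul_comm k,
        hn, mul_inv_cancel])
    have : b * (a ^ k)⁻¹ ∈ Subgroup.zpowers a :=
      Subgroup.zpowers_le.2 (pow_mem (Subgroup.mem_zpowers a) _) (hu.le_zpowers ha hm)
    simpa using mul_mem this (zpow_mem (Subgroup.mem_zpowers a) k)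

omit [Finite G] in
theorem conj_pow_eq {l x m : G} (hm : Commute l m) (h : l * x * l⁻¹ = m * x) :
    ∀ n : ℕ, l ^ n * x * (l ^ n)⁻¹ = m ^ n * x
  | 0 => by simp
  | n + 1 => by
    calc l ^ (n + 1) * x * (l ^ (n + 1))⁻¹ = l * (l ^ n * x * (l ^ n)⁻¹) * l⁻¹ := by rw [pow_succ']; group
      _ = l * m ^ n * x * l⁻¹ := by rw [conj_pow_eq hm h n]; group
      _ = m ^ n * (l * x * l⁻¹) := by rw [(hm.pow_right n).eq]; group
      _ = m ^ (n + 1) * x := by rw [h, pow_succ]; group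

/-- An element of order prime to `p` acting trivially modulo `M` centralizes. -/
theorem IsUniq.commute_of_mod (hu : IsUniq p M) {x l : G} {j : ℕ} (hx : orderOf x = p ^ j) (hxM : x ∉ M)
    (hl : (orderOf l).Coprime p) (h : l * x * l⁻¹ * x⁻¹ ∈ M) : Commute l x := by
  set m := l * x * l⁻¹ * x⁻¹ with hm
  have hcon : l * x * l⁻¹ = m * x := by rw [hm]; group
  obtain ⟨i, rfl⟩ : ∃ i, j = i + 2 := ⟨j - 2, by
    by_contra hj
    refine hxM (hu.2 x (orderOf_dvd_iff_pow_eq_one.1 (hx ▸ ?_)))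
    calc p ^ j ∣ p ^ 1 := pow_dvd_pow p (by omega)
      _ = p := pow_one p⟩
  have hmx : Commute m x := hu.commute_mem hx h
  have hmp : m ^ p = 1 := by
    rw [← hu.1]; exact orderOf_dvd_iff_pow_eq_one.1 (Subgroup.orderOf_dvd_natCard _ h)
  have hfix : l * x ^ p * l⁻¹ = x ^ p := by rw [← conj_pow, hcon, hmx.mul_pow, hmp, one_mul]
  have hcm : Commute l m := by
    obtain ⟨n, hn⟩ := Subgroup.mem_zpowers_iff.1 (hu.le_zpowers (x := x) (j := i + 1) hx h)
    have hc : Commute l (x ^ p) := mul_inv_eq_iff_eq_mul.1 hfix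
    rw [← hn, pow_succ' p i, pow_mul]
    exact (hc.pow_right _).zpow_right n
  have h1 := conj_pow_eq hcm hcon (orderOf l)
  rw [pow_orderOf_eq_one, inv_one, mul_one, one_mul, right_eq_mul] at h1
  have h2 : orderOf m = 1 := Nat.eq_one_of_dvd_coprimes hl (orderOf_dvd_of_pow_eq_one h1)
    (orderOf_dvd_of_pow_eq_one hmp)
  rw [orderOf_eq_one_iff] at h2
  rw [h2, one_mul] at hcon
  exact mul_inv_eq_iff_eq_mul.1 hcon

omit [Finite G] in
theorem mul_pow_central {a b c : G} (hca : Commute c a) (hcb : Commute c b) (h : b * a = c * (a * b)) :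
    ∀ n : ℕ, (a * b) ^ n = c ^ (n.choose 2) * a ^ n * b ^ n
  | 0 => by simp
  | n + 1 => by
    have hb : ∀ n : ℕ, b ^ n * a = c ^ n * (a * b ^ n) := by
      intro n
      induction n with
      | zero => simp
      | succ n ih =>
        calc b ^ (n + 1) * a = b * (b ^ n * a) := by rw [pow_succ']; group
          _ = c ^ n * (b * a) * b ^ n := by rw [ih, ← mul_assoc, ← (hcb.pow_left n).eq]; group
          _ = c ^ (n + 1) * (a * b ^ (n + 1)) := by rw [h, pow_succ c n, pow_succ' b n]; group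
    rw [pow_succ, mul_pow_central hca hcb h n, show (n + 1).choose 2 = n.choose 2 + n by
      rw [show (2 : ℕ) = 1 + 1 from rfl, Nat.choose_succ_succ', Nat.choose_one_right, add_comm], pow_add, pow_succ b n, pow_succ a n]
    calc c ^ n.choose 2 * a ^ n * b ^ n * (a * b) = c ^ n.choose 2 * a ^ n * (b ^ n * a) * b := by group
      _ = c ^ n.choose 2 * (a ^ n * c ^ n) * a * b ^ n * b := by rw [hb]; group
      _ = c ^ n.choose 2 * c ^ n * (a ^ n * a) * (b ^ n * b) := by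
          rw [← ((hca.pow_left n).pow_right n).eq]; group

/-- Two non-commuting elements can be corrected to one whose `p`-th power is small. -/
theorem IsUniq.correct (hu : IsUniq p M) {x y : G} {i j : ℕ} (hx : orderOf x = p ^ (j + 1))
    (hy : orderOf y = p ^ (i + 1)) (hij : i ≤ j) (hc : x * y * x⁻¹ * y⁻¹ ∈ M) :
    ∃ k : ℤ, ∃ c ∈ M, Commute c x ∧ (y * x ^ k) ^ p = c ^ p.choose 2 := by
  set m := x * y * x⁻¹ * y⁻¹ with hm
  have hmx : Commute m x := hu.commute_mem hx hc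
  have hmy : Commute m y := hu.commute_mem hy hc
  have hmp : m ^ p = 1 := by
    rw [← hu.1]; exact orderOf_dvd_iff_pow_eq_one.1 (Subgroup.orderOf_dvd_natCard _ hc)
  have hcon : x * y * x⁻¹ = m * y := by rw [hm]; group
  have hfix : Commute x (y ^ p) := by
    refine mul_inv_eq_iff_eq_mul.1 ?_
    rw [← conj_pow, hcon, hmy.mul_pow, hmp, one_mul]
  obtain ⟨n, hn⟩ : ∃ n : ℤ, (x ^ p) ^ n = y ^ p := by
    rcases j with _ | j
    · refine ⟨0, ?_⟩
      rw [zpow_zero, eq_comm]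
      rw [show i = 0 by omega, zero_add, pow_one] at hy
      rw [← hy]; exact pow_orderOf_eq_one y
    refine Subgroup.mem_zpowers_iff.1 (hu.mem_zpowers (j := j) (i := i) ?_ ?_ (by omega) (hfix.pow_left p))
    · rw [orderOf_pow_of_dvd hp.out.ne_zero (hx ▸ dvd_pow_self p (by omega)), hx, pow_succ p (j + 1),
        Nat.mul_div_cancel _ hp.out.pos]
    · rw [orderOf_pow_of_dvd hp.out.ne_zero (hy ▸ dvd_pow_self p (by omega)), hy, pow_succ,
        Nat.mul_div_cancel _ hp.out.pos]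
  have hyx : y * x * y⁻¹ = m⁻¹ * x := by
    calc y * x * y⁻¹ = (m⁻¹ * (m * y)) * x * y⁻¹ := by group
      _ = m⁻¹ * x := by rw [← hcon]; group
  have hk : ∀ k : ℤ, y * x ^ k * y⁻¹ = (m ^ k)⁻¹ * x ^ k := fun k => by
    rw [← conj_zpow, hyx, hmx.inv_left.mul_zpow, inv_zpow]
  refine ⟨-n, m ^ (-n), zpow_mem hc _, hmx.zpow_left _, ?_⟩
  have hrel : x ^ (-n) * y = m ^ (-n) * (y * x ^ (-n)) := by
    calc x ^ (-n) * y = m ^ (-n) * ((m ^ (-n))⁻¹ * x ^ (-n)) * y := by group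
      _ = m ^ (-n) * (y * x ^ (-n)) := by rw [← hk]; group
  rw [mul_pow_central (hmy.zpow_left _) ((hmx.zpow_left _).zpow_right _) hrel, mul_assoc]
  have : (x ^ (-n)) ^ p = ((x ^ p) ^ n)⁻¹ := by
    rw [← zpow_natCast (x ^ (-n)), ← zpow_mul, ← zpow_natCast x, ← zpow_mul, ← zpow_neg]
    congr 1; ring
  rw [this, hn, mul_inv_cancel, mul_one]

theorem IsUniq.exists_order (hu : IsUniq p M) {P : Subgroup G} (hP : IsPGroup p P)
    (hna : ¬ IsMulCommutative P) :
    ∃ x ∈ P, ∃ y ∈ P, x * y ≠ y * x ∧ ∃ i j, i ≤ j ∧ orderOf x = p ^ (j + 1) ∧ orderOf y = p ^ (i + 1) := by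
  obtain ⟨x, hx, y, hy, hxy⟩ : ∃ x ∈ P, ∃ y ∈ P, x * y ≠ y * x := by
    by_contra h
    push Not at h
    exact hna (.of_setLike_mul_comm h)
  have key : ∀ z ∈ P, z ≠ 1 → ∃ i, orderOf z = p ^ (i + 1) := fun z hz hz1 => by
    obtain ⟨n, hn⟩ := IsPGroup.iff_orderOf.1 hP ⟨z, hz⟩
    rw [Subgroup.orderOf_mk] at hn
    rcases n with _ | n
    · exact absurd (orderOf_eq_one_iff.1 (by simpa using hn)) hz1
    · exact ⟨n, hn⟩
  obtain ⟨j, hj⟩ := key x hx (fun e => hxy (by rw [e, one_mul, mul_one]))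
  obtain ⟨i, hi⟩ := key y hy (fun e => hxy (by rw [e, one_mul, mul_one]))
  rcases le_total i j with h | h
  · exact ⟨x, hx, y, hy, hxy, i, j, h, hj, hi⟩
  · exact ⟨y, hy, x, hx, Ne.symm hxy, j, i, h, hi, hj⟩

theorem IsUniq.comm_of_odd (hu : IsUniq p M) (hp2 : p ≠ 2) {P : Subgroup G} (hP : IsPGroup p P)
    (hPM : ∀ a ∈ P, ∀ b ∈ P, a * b * a⁻¹ * b⁻¹ ∈ M) : IsMulCommutative P := by
  by_contra hna
  obtain ⟨x, hx, y, hy, hxy, i, j, hij, hox, hoy⟩ := hu.exists_order hP hna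
  obtain ⟨k, c, hc, hcx, hk⟩ := hu.correct hox hoy hij (hPM x hx y hy)
  obtain ⟨t, ht⟩ : p ∣ p.choose 2 := Nat.Prime.dvd_choose_self hp.out two_ne_zero
    (lt_of_le_of_ne hp.out.two_le (Ne.symm hp2))
  have hcp : c ^ p = 1 := by
    rw [← hu.1]; exact orderOf_dvd_iff_pow_eq_one.1 (Subgroup.orderOf_dvd_natCard _ hc)
  rw [ht, pow_mul, hcp, one_pow] at hk
  have h1 := hu.commute_mem hox (hu.2 _ hk)
  have h2 : Commute (y * x ^ k * (x ^ k)⁻¹) x := h1.mul_left (Commute.self_zpow x k).symm.inv_left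
  rw [mul_inv_cancel_right] at h2
  exact hxy h2.eq.symm

end Cfsg.Agent.BGroup
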