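import Cfsg.Agent.Lib.BGroup.SemiStab

/-! Subgroups of equal order of a solvable group with conjugate abelian subgroups are conjugate. -/

set_option autoImplicit false
set_option linter.style.haveILetI false
open scoped Pointwise

universe u

namespace Cfsg.Agent.BGroup

open SolvBasic

theorem eq_of_card_cyclic {A : Type*} [Group A] [Finite A] [IsCyclic A] {H K : Subgroup A}
    (h : Nat.card H = Nat.card K) : H = K := by
  classical
  haveI := Fintype.ofFinite A
  have key : ∀ X : Subgroup A, (X : Set A).toFinset = Finset.univ.filter fun a : A => a ^ Nat.card X = 1 := by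
    intro X
    refine Finset.eq_of_subset_of_card_le (fun a ha => ?_) ?_
    · rw [Set.mem_toFinset] at ha
      simp only [Finset.mem_filter, Finset.mem_univ, true_and]
      exact orderOf_dvd_iff_pow_eq_one.1 (Subgroup.orderOf_dvd_natCard _ ha)
    · refine (IsCyclic.card_pow_eq_one_le Nat.card_pos).trans ?_
      rw [Set.toFinset_card, ← Nat.card_eq_fintype_card]; rfl
  exact SetLike.coe_injective (Set.toFinset_inj.1 (by rw [key H, key K, h]))

/-- A stabiliser of a family of subgroups is cyclic modulo the Fitting subgroup. -/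
theorem isCyclic_stab {G : Type u} [Group G] [Finite G] (F : Subgroup G) [F.Normal] (hBq : IsB (G ⧸ F))
    (𝓜 : Set (Subgroup G)) (hn : ∀ M ∈ 𝓜, M.Normal) (hFcen : ∀ M ∈ 𝓜, ∀ f ∈ F, ∀ m ∈ M, f * m = m * f)
    (hdet : ∀ x : G, (∀ M ∈ 𝓜, ∀ m ∈ M, x * m * x⁻¹ = m) → x ∈ F)
    (Wof : Subgroup G → Subgroup G) (S : Subgroup G) (hS : ∀ M ∈ 𝓜, S ≤ Subgroup.normalizer (Wof M : Set G))
    (hchar : ∀ M ∈ 𝓜, HasChar M (Wof M)) : IsCyclic (S.map (QuotientGroup.mk' F)) := by
  classical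
  set π := QuotientGroup.mk' F with hπ
  set Sb := S.map π with hSb
  -- power maps
  let Scal : Subgroup G → G → Prop := fun M x => ∃ i : ℕ, ∀ m ∈ M, x * m * x⁻¹ = m ^ i
  have hScalF : ∀ M ∈ 𝓜, ∀ x f, f ∈ F → Scal M x → Scal M (x * f) := by
    rintro M hM x f hf ⟨i, hi⟩
    refine ⟨i, fun m hm => ?_⟩
    rw [← hi m hm]
    calc x * f * m * (x * f)⁻¹ = x * (f * m) * f⁻¹ * x⁻¹ := by group
      _ = x * m * x⁻¹ := by rw [hFcen M hM f hf m hm]; group
  have hScalConj : ∀ M ∈ 𝓜, ∀ x g, Scal M x → Scal M (g * x * g⁻¹) := by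
    rintro M hM x g ⟨i, hi⟩
    refine ⟨i, fun m hm => ?_⟩
    have h1 := hi (g⁻¹ * m * g) (by simpa using (hn M hM).conj_mem m hm g⁻¹)
    calc g * x * g⁻¹ * m * (g * x * g⁻¹)⁻¹ = g * (x * (g⁻¹ * m * g) * x⁻¹) * g⁻¹ := by group
      _ = g * (g⁻¹ * m * g) ^ i * g⁻¹ := by rw [h1]
      _ = m ^ i := by rw [← conj_pow]; group
  have hScalCentral : ∀ M ∈ 𝓜, ∀ x g, Scal M x → ∀ m ∈ M, (g * x * g⁻¹ * x⁻¹) * m * (g * x * g⁻¹ * x⁻¹)⁻¹ = m := by
    rintro M hM x g ⟨i, hi⟩ m hm
    have hm' : x⁻¹ * m * x ∈ M := by simpa using (hn M hM).conj_mem m hm x⁻¹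
    have h1 := hi _ hm'
    have h3 := hi (g⁻¹ * (x⁻¹ * m * x) * g) (by simpa using (hn M hM).conj_mem _ hm' g⁻¹)
    calc (g * x * g⁻¹ * x⁻¹) * m * (g * x * g⁻¹ * x⁻¹)⁻¹
        = g * (x * (g⁻¹ * (x⁻¹ * m * x) * g) * x⁻¹) * g⁻¹ := by group
      _ = g * (g⁻¹ * (x⁻¹ * m * x) * g) ^ i * g⁻¹ := by rw [h3]
      _ = (x⁻¹ * m * x) ^ i := by rw [← conj_pow]; group
      _ = m := by rw [← h1]; group
  -- abelian
  have hab : ∀ a ∈ S, ∀ b ∈ S, π a * π b = π b * π a := by
    intro a ha b hb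
    have hmem : a * b * a⁻¹ * b⁻¹ ∈ F := by
      refine hdet _ fun M hM m hm => ?_
      obtain ⟨Q, hQg, hQc, χ, hker, -⟩ := hchar M hM
      let a' : Subgroup.normalizer (Wof M : Set G) := ⟨a, hS M hM ha⟩
      let b' : Subgroup.normalizer (Wof M : Set G) := ⟨b, hS M hM hb⟩
      obtain ⟨e, he⟩ := IsCyclic.exists_generator (α := χ.range)
      obtain ⟨⟨s, hs⟩, hse⟩ : ∃ t : { t : Q // t ∈ χ.range }, t = e := ⟨e, rfl⟩
      obtain ⟨s, rfl⟩ := hs
      have dec : ∀ c : Subgroup.normalizer (Wof M : Set G), ∃ (j : ℤ) (k : G), Scal M k ∧ (c : G) = (s : G) ^ j * k := by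
        intro c
        obtain ⟨j, hj⟩ := Subgroup.mem_zpowers_iff.1 (he ⟨χ c, c, rfl⟩)
        have hj' : χ s ^ j = χ c := by
          rw [← hse] at hj
          exact congrArg Subtype.val hj
        obtain ⟨i, hi⟩ := hker ((s ^ j)⁻¹ * c) (by rw [map_mul, map_inv, map_zpow, hj', inv_mul_cancel])
        exact ⟨j, ((s : G) ^ j)⁻¹ * (c : G), ⟨i, by simpa using hi⟩, by group⟩
      obtain ⟨j, k, hk, hak⟩ := dec a'
      obtain ⟨j', k', hk', hbk⟩ := dec b'
      have hcc : ∀ x g, Scal M x → ∀ m ∈ M, g * (x * m * x⁻¹) * g⁻¹ = x * (g * m * g⁻¹) * x⁻¹ := by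
        intro x g hx m hm
        obtain ⟨i, hi⟩ := hx
        rw [hi m hm, hi _ ((hn M hM).conj_mem m hm g), ← conj_pow]
      have key : ∀ m ∈ M, a * (b * m * b⁻¹) * a⁻¹ = b * (a * m * a⁻¹) * b⁻¹ := by
        intro m hm
        have cj : ∀ (x g : G) (m : G), (x * g) * m * (x * g)⁻¹ = x * (g * m * g⁻¹) * x⁻¹ := fun _ _ _ => by group
        have hm1 : ∀ (x : G) (m : G), m ∈ M → x * m * x⁻¹ ∈ M := fun x m hm => (hn M hM).conj_mem m hm x
        rw [show a = (s : G) ^ j * k from hak, show b = (s : G) ^ j' * k' from hbk, cj, cj, cj, cj,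
          ← hcc k ((s : G) ^ j') hk _ (hm1 _ _ hm), ← hcc k' ((s : G) ^ j) hk' _ (hm1 _ _ hm),
          hcc k k' hk m hm]
        group
      have h1 := key (a⁻¹ * b⁻¹ * m * b * a) (by
        have h := (hn M hM).conj_mem m hm (a⁻¹ * b⁻¹)
        simpa [mul_assoc] using h)
      calc a * b * a⁻¹ * b⁻¹ * m * (a * b * a⁻¹ * b⁻¹)⁻¹
          = a * (b * (a⁻¹ * b⁻¹ * m * b * a) * b⁻¹) * a⁻¹ := by group
        _ = b * (a * (a⁻¹ * b⁻¹ * m * b * a) * a⁻¹) * b⁻¹ := h1
        _ = m := by group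
    have h := (QuotientGroup.eq_one_iff _).2 hmem
    rw [← mul_inv_eq_one, mul_inv_rev, ← mul_assoc]
    show π a * π b * (π a)⁻¹ * (π b)⁻¹ = 1
    rw [← map_inv, ← map_inv, ← map_mul, ← map_mul, ← map_mul]
    exact h
  letI : CommGroup Sb := { (inferInstance : Group Sb) with
    mul_comm := fun x y => by
      obtain ⟨_, a, ha, rfl⟩ := x
      obtain ⟨_, b, hb, rfl⟩ := y
      exact Subtype.ext (hab a ha b hb) }
  refine isCyclic_of_unique_prime fun r hr x y hx hy => ?_
  by_contra hne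
  obtain ⟨_, a, ha, rfl⟩ := x
  obtain ⟨_, b, hb, rfl⟩ := y
  rw [← Subgroup.orderOf_coe] at hx hy
  have hconj : ∀ z w : G ⧸ F, orderOf z = r → orderOf w = r → ∃ g, w ∈ MulAut.conj g • Subgroup.zpowers z :=
    fun z w hz hw => by
      obtain ⟨g, hg⟩ := hBq (Subgroup.zpowers z) (Subgroup.zpowers w) inferInstance inferInstance
        (by rw [Nat.card_zpowers, Nat.card_zpowers, hz, hw])
      exact ⟨g, hg ▸ Subgroup.mem_zpowers w⟩
  have hspread : ∀ M ∈ 𝓜, ∀ z w : G, orderOf (π z) = r → orderOf (π w) = r → Scal M z → Scal M w := by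
    intro M hM z w hz hw hsc
    obtain ⟨g, hg⟩ := hconj _ _ hz hw
    obtain ⟨g, rfl⟩ := QuotientGroup.mk'_surjective F g
    rw [mem_conjSmul, ← (isOfFinOrder_of_finite (π z)).mem_powers_iff_mem_zpowers] at hg
    obtain ⟨j, hj⟩ := hg
    have hpow : Scal M (z ^ j) := by
      obtain ⟨i, hi⟩ := hsc
      refine ⟨i ^ j, ?_⟩
      clear hj
      induction j with
      | zero => intro m _; simp
      | succ j ih =>
        intro m hm
        rw [pow_succ' z, show z * z ^ j * m * (z * z ^ j)⁻¹ = z * (z ^ j * m * (z ^ j)⁻¹) * z⁻¹ by group, ih m hm,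
          ← conj_pow, hi m hm, ← pow_mul, pow_succ' i]
    have hmem : (g * z ^ j * g⁻¹)⁻¹ * w ∈ F := by
      have hj' : (π z) ^ j = (π g)⁻¹ * π w * π g := hj
      rw [← QuotientGroup.eq_one_iff]
      show π _ = 1
      rw [map_mul π, map_inv π, map_mul π, map_mul π, map_inv π, map_pow π, hj']
      group
    have := hScalF M hM _ _ hmem (hScalConj M hM _ g hpow)
    rwa [mul_inv_cancel_left] at this
  by_cases hall : ∀ M ∈ 𝓜, ∃ z : G, orderOf (π z) = r ∧ Scal M z
  · refine hne ?_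
    obtain ⟨g, hg⟩ := hconj (π a) (π b) hx hy
    obtain ⟨g, rfl⟩ := QuotientGroup.mk'_surjective F g
    have hcen : π g * π a * (π g)⁻¹ = π a := by
      have hmem : g * a * g⁻¹ * a⁻¹ ∈ F := hdet _ fun M hM m hm => by
        obtain ⟨z, hz, hsc⟩ := hall M hM
        exact hScalCentral M hM a g (hspread M hM z a hz hx hsc) m hm
      rw [← mul_inv_eq_one, ← map_inv, ← map_mul, ← map_mul, ← map_inv, ← map_mul]
      exact (QuotientGroup.eq_one_iff _).2 hmem
    rw [mem_conjSmul] at hg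
    obtain ⟨j, hj⟩ := Subgroup.mem_zpowers_iff.1 hg
    refine Subgroup.mem_zpowers_iff.2 ⟨j, Subtype.ext ?_⟩
    show (π a) ^ j = π b
    calc (π a) ^ j = (π g * π a * (π g)⁻¹) ^ j := by rw [hcen]
      _ = π b := by rw [conj_zpow, hj]; simp [hπ, mul_assoc]
  · push Not at hall
    obtain ⟨M, hM, hnone⟩ := hall
    obtain ⟨Q, hQg, hQc, χ, hker, htriv⟩ := hchar M hM
    let a' : Subgroup.normalizer (Wof M : Set G) := ⟨a, hS M hM ha⟩
    let b' : Subgroup.normalizer (Wof M : Set G) := ⟨b, hS M hM hb⟩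
    have hchF : ∀ s : Subgroup.normalizer (Wof M : Set G), (s : G) ∈ F → χ s = 1 := fun s hs =>
      htriv s fun m hm => by rw [hFcen M hM _ hs m hm]; group
    have hpowr : ∀ (c : G) (hc : c ∈ Subgroup.normalizer (Wof M : Set G)), orderOf (π c) = r →
        orderOf (χ ⟨c, hc⟩) = r := by
      intro c hc hcr
      have h1 : χ ⟨c, hc⟩ ^ r = 1 := by
        rw [← map_pow]
        refine hchF _ ?_
        rw [← QuotientGroup.eq_one_iff]
        show π (c ^ r) = 1
        rw [map_pow, ← hcr, pow_orderOf_eq_one]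
      haveI : Fact r.Prime := ⟨hr⟩
      refine orderOf_eq_prime h1 fun h => hnone c hcr ?_
      obtain ⟨i, hi⟩ := hker _ h
      exact ⟨i, hi⟩
    have hea := hpowr a (hS M hM ha) hx
    have heb := hpowr b (hS M hM hb) hy
    haveI : Fact r.Prime := ⟨hr⟩
    obtain ⟨e, he⟩ := IsCyclic.exists_generator (α := χ.range)
    have hA : χ b' ∈ Subgroup.zpowers (χ a') := by
      have hsame : Subgroup.zpowers (⟨χ b', b', rfl⟩ : χ.range) = Subgroup.zpowers (⟨χ a', a', rfl⟩ : χ.range) := by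
        haveI : Finite χ.range := Finite.of_surjective _ χ.rangeRestrict_surjective
        refine eq_of_card_cyclic ?_
        rw [Nat.card_zpowers, Nat.card_zpowers, ← Subgroup.orderOf_coe, ← Subgroup.orderOf_coe]
        exact heb.trans hea.symm
      obtain ⟨j, hj⟩ := Subgroup.mem_zpowers_iff.1 (hsame ▸ Subgroup.mem_zpowers _ :
        (⟨χ b', b', rfl⟩ : χ.range) ∈ Subgroup.zpowers (⟨χ a', a', rfl⟩ : χ.range))
      exact ⟨j, congrArg Subtype.val hj⟩
    obtain ⟨j, hj⟩ := hA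
    have hj : χ a' ^ j = χ b' := hj
    refine hne (Subgroup.mem_zpowers_iff.2 ⟨j, Subtype.ext ?_⟩)
    show (π a) ^ j = π b
    by_contra hw
    have hor : orderOf (π ((a ^ j)⁻¹ * b)) = r := by
      refine orderOf_eq_prime ?_ ?_
      · rw [map_mul π, map_inv π, map_zpow π,
          ((show Commute (π a) (π b) from hab a ha b hb).zpow_left j).inv_left.mul_pow, inv_pow,
          ← zpow_natCast ((π a) ^ j), ← zpow_mul, mul_comm, zpow_mul, zpow_natCast, ← hx]
        rw [pow_orderOf_eq_one, one_zpow, inv_one, one_mul, hx, ← hy, pow_orderOf_eq_one]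
      · rw [map_mul π, map_inv π, map_zpow π, ne_eq, inv_mul_eq_one]
        exact hw
    refine hnone _ hor ?_
    obtain ⟨i, hi⟩ := hker ((a' ^ j)⁻¹ * b') (by rw [map_mul, map_inv, map_zpow, hj, inv_mul_cancel])
    exact ⟨i, by simpa [a', b'] using hi⟩

variable {G : Type u} [Group G] [Finite G]

/-- Subgroups with the same product with a coprime normal subgroup are conjugate. -/
theorem conj_of_sup [Group.IsSolvable G] {M H K : Subgroup G} [M.Normal]
    (hcop : (Nat.card H).Coprime (Nat.card M)) (hK : K ≤ M ⊔ H) (hc : Nat.card K = Nat.card H) :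
    ∃ m ∈ M, MulAut.conj m • H = K := by
  obtain ⟨c, hc, h⟩ := SchurZ.conj_in (A := H) (K := M) (B := K) (by rw [Subgroup.normalizer_eq_top]; exact le_top) hcop
    (Or.inr inferInstance) hK hc
  exact ⟨c, hc, h⟩

theorem IsB.conj_all : ∀ (n : ℕ) (G : Type u) [Group G] [Finite G], Nat.card G = n → IsB G → Group.IsSolvable G →
    ∀ H K : Subgroup G, Nat.card H = Nat.card K → ∃ g : G, MulAut.conj g • H = K := by
  intro n
  induction n using Nat.strong_induction_on with
  | _ n ih =>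
  intro G _ _ hcardG hB hs H K hHK
  haveI := hs
  classical
  have quot : ∀ (M : Subgroup G) [M.Normal], M ≠ ⊥ → Nat.card (H.map (QuotientGroup.mk' M)) = Nat.card (K.map (QuotientGroup.mk' M)) →
      ∃ g : G, M ⊔ MulAut.conj g • H = M ⊔ K := by
    intro M _ hM1 hc
    have hlt : Nat.card (G ⧸ M) < n := by
      have h1 : 1 < Nat.card M :=
        Nat.lt_of_le_of_ne Nat.card_pos (Ne.symm fun h => hM1 (Subgroup.card_eq_one.1 h))
      rw [← hcardG, Subgroup.card_eq_card_quotient_mul_card_subgroup M]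
      exact (lt_mul_iff_one_lt_right Nat.card_pos).2 h1
    obtain ⟨g, hg⟩ := ih _ hlt (G ⧸ M) rfl (IsB.quotient _ G rfl hB hs M) inferInstance _ _ hc
    obtain ⟨g, rfl⟩ := QuotientGroup.mk'_surjective M g
    refine ⟨g, ?_⟩
    rw [← map_conjSmul] at hg
    have := congrArg (Subgroup.comap (QuotientGroup.mk' M)) hg
    rwa [Subgroup.comap_map_eq, Subgroup.comap_map_eq, QuotientGroup.ker_mk', sup_comm _ M, sup_comm _ M] at this
  by_cases hH1 : Nat.card H = 1
  · exact ⟨1, by rw [conjSmul_one]; exact (Subgroup.card_eq_one.1 hH1).trans (Subgroup.card_eq_one.1 (hHK ▸ hH1)).symm⟩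
  -- a minimal normal subgroup whose prime does not divide the order, or contained in both
  by_cases hgood : ∃ (M : Subgroup G) (_ : M.Normal), M ≠ ⊥ ∧
      ((Nat.card H).Coprime (Nat.card M) ∨ (M ≤ H ∧ M ≤ K))
  · obtain ⟨M, hMn, hM1, hcase⟩ := hgood
    haveI := hMn
    rcases hcase with hcop | ⟨hMH, hMK⟩
    · have hcopK : (Nat.card K).Coprime (Nat.card M) := hHK ▸ hcop
      have hdis : ∀ X : Subgroup G, (Nat.card X).Coprime (Nat.card M) → X ⊓ M = ⊥ := fun X hX =>
        (Subgroup.disjoint_of_coprime_natCard hX).eq_bot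
      obtain ⟨g, hg⟩ := quot M hM1 (by rw [card_map_mk'_of_inf_eq_bot (hdis H hcop), card_map_mk'_of_inf_eq_bot (hdis K hcopK), hHK])
      obtain ⟨m, -, hm⟩ := conj_of_sup (H := MulAut.conj g • H) (K := K) (M := M) (by rwa [card_conjSmul])
        (hg ▸ le_sup_right) (by rw [card_conjSmul, hHK])
      exact ⟨m * g, by rw [← conjSmul_conjSmul, hm]⟩
    · have hidx : ∀ X : Subgroup G, M ≤ X → Nat.card (X.map (QuotientGroup.mk' M)) * Nat.card M = Nat.card X := by
        intro X hX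
        have h : Nat.card (X.map (QuotientGroup.mk' M)) = M.relIndex X := by
          rw [← Subgroup.relIndex_ker, QuotientGroup.ker_mk']
        rw [h, mul_comm, ← Subgroup.relIndex_bot_left, Subgroup.relIndex_mul_relIndex _ _ _ bot_le hX,
          Subgroup.relIndex_bot_left]
      obtain ⟨g, hg⟩ := quot M hM1
        (Nat.eq_of_mul_eq_mul_right Nat.card_pos (by rw [hidx H hMH, hidx K hMK, hHK]))
      refine ⟨g, ?_⟩
      have hle : M ≤ MulAut.conj g • H := fun m hm => by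
        rw [mem_conjSmul]; exact hMH (by simpa using hMn.conj_mem m hm g⁻¹)
      rwa [sup_eq_right.2 hle, sup_eq_right.2 hMK] at hg
  push Not at hgood
  set 𝓜 : Set (Subgroup G) := {M | M.Normal ∧ M ≠ ⊥ ∧ ∀ N : Subgroup G, N.Normal → N ≤ M → N = ⊥ ∨ N = M} with h𝓜
  have hdata : ∀ M ∈ 𝓜, ∃ p : ℕ, p.Prime ∧ IsMulCommutative M ∧ (∀ x ∈ M, x ^ p = 1) ∧ IsPGroup p M ∧
      (∀ (y : G) (j : ℕ), orderOf y = p ^ j → y ∈ M) ∧ ¬ p ∣ M.index ∧ H ⊓ M ≠ ⊥ ∧ H ⊓ M ≠ M := by
    rintro M ⟨hMn, hM1, hmin⟩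
    haveI := hMn
    haveI := isMulCommutative_of_minimal_normal hM1 hmin
    obtain ⟨p, hp, he, hMp⟩ := exists_prime_exponent_of_minimal_normal hM1 hmin
    haveI : Fact p.Prime := ⟨hp⟩
    obtain ⟨ncop, nsub⟩ := hgood M hMn hM1
    obtain ⟨k, hk⟩ := IsPGroup.iff_card.1 hMp
    have hpH : p ∣ Nat.card H := by
      by_contra h
      exact ncop (hk ▸ (hp.coprime_iff_not_dvd.2 h).symm.pow_right k)
    have hne : H ⊓ M ≠ ⊥ := fun h => by
      obtain ⟨y, hy⟩ := exists_prime_orderOf_dvd_card' p hpH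
      rw [← Subgroup.orderOf_coe] at hy
      have hmem : (y : G) ∈ H ⊓ M := ⟨y.2, hB.mem_of_pow_eq_one hM1 he (hy ▸ pow_orderOf_eq_one _)⟩
      rw [h, Subgroup.mem_bot] at hmem
      rw [hmem, orderOf_one] at hy
      exact hp.one_lt.ne hy
    have hMne : Nat.card M ≠ p := fun hc => by
      have hu : ∀ X : Subgroup G, p ∣ Nat.card X → M ≤ X := fun X hX => by
        obtain ⟨y, hy⟩ := exists_prime_orderOf_dvd_card' p hX
        rw [← Subgroup.orderOf_coe] at hy
        have hle : Subgroup.zpowers (y : G) ≤ M :=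
          Subgroup.zpowers_le.2 (hB.mem_of_pow_eq_one hM1 he (hy ▸ pow_orderOf_eq_one _))
        rw [← Subgroup.eq_of_le_of_card_ge hle (by rw [Nat.card_zpowers, hy, hc])]
        exact Subgroup.zpowers_le.2 y.2
      exact nsub (hu H hpH) (hu K (hHK ▸ hpH))
    have hall : ∀ (y : G) (j : ℕ), orderOf y = p ^ j → y ∈ M := fun y j hy => hB.mem_of_card_ne hM1 he hMp hMne hy
    have hsyl : ∀ P : Sylow p G, (P : Subgroup G) ≤ M := fun P y hy => by
      obtain ⟨j, hj⟩ := IsPGroup.iff_orderOf.1 P.2 ⟨y, hy⟩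
      rw [Subgroup.orderOf_mk] at hj
      exact hall y j hj
    have hidx : ¬ p ∣ M.index := fun hd =>
      (default : Sylow p G).not_dvd_index (hd.trans (Subgroup.index_dvd_of_le (hsyl default)))
    refine ⟨p, hp, inferInstance, he, hMp, hall, hidx, hne, fun h => ?_⟩
    refine nsub (inf_eq_right.1 h) ?_
    have hMH : M ≤ H := inf_eq_right.1 h
    have hdvd : p ^ k ∣ Nat.card K := hHK ▸ hk ▸ Subgroup.card_dvd_of_le hMH
    obtain ⟨Q, hQ⟩ := Sylow.exists_subgroup_card_pow_prime p hdvd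
    have hle : Q.map K.subtype ≤ M := fun y hy => by
      obtain ⟨j, hj⟩ := IsPGroup.iff_orderOf.1 ((IsPGroup.of_card hQ).map K.subtype) ⟨y, hy⟩
      rw [Subgroup.orderOf_mk] at hj
      exact hall y j hj
    rw [← Subgroup.eq_of_le_of_card_ge hle (by rw [Subgroup.card_map_of_injective K.subtype_injective, hQ, hk])]
    exact Subgroup.map_subtype_le _
  have hcomm : ∀ M ∈ 𝓜, ∀ N ∈ 𝓜, ∀ m ∈ M, ∀ x ∈ N, m * x = x * m := by
    intro M hM N hN m hm x hx
    haveI := hM.1
    haveI := hN.1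
    rcases eq_or_ne M N with rfl | hne
    · obtain ⟨-, -, hab, -⟩ := hdata M hM
      exact setLike_mul_comm hm hx
    have hd : Disjoint M N := by
      rw [disjoint_iff]
      rcases hM.2.2 (M ⊓ N) inferInstance inf_le_left with h | h
      · exact h
      · rcases hN.2.2 (M ⊓ N) inferInstance inf_le_right with h' | h'
        · exact h'
        · exact absurd (h.symm.trans h') hne
    exact (Subgroup.commute_of_normal_of_disjoint M N hM.1 hN.1 hd m x hm hx).eq
  set F := sSup 𝓜 with hF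
  haveI hFn : F.Normal := by
    refine ⟨fun x hx g => ?_⟩
    have hle : F ≤ F.comap (MulAut.conj g).toMonoidHom := sSup_le fun M hM m hm =>
      (le_sSup hM : M ≤ F) (hM.1.conj_mem m hm g)
    exact hle hx
  have hMF : ∀ M ∈ 𝓜, M ≤ F := fun M hM => le_sSup hM
  haveI hFab : IsMulCommutative F := by
    rw [hF, sSup_eq_iSup', Subgroup.iSup_eq_closure]
    refine Subgroup.isMulCommutative_closure ?_
    intro a ha b hb
    obtain ⟨⟨M, hM⟩, ha⟩ := Set.mem_iUnion.1 ha
    obtain ⟨⟨N, hN⟩, hb⟩ := Set.mem_iUnion.1 hb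
    exact hcomm M hM N hN a ha b hb
  have hdet : ∀ x : G, (∀ M ∈ 𝓜, ∀ m ∈ M, x * m * x⁻¹ = m) → x ∈ F := by
    intro x hx
    have hfit : Cfsg.fittingSubgroup G ≤ F := by
      rw [FittingCores.fitting_eq_iSup_pCore]
      refine iSup_le fun q => ?_
      by_cases hb : Cfsg.pCore (q : ℕ) G = ⊥
      · rw [hb]; exact bot_le
      haveI : Fact (q : ℕ).Prime := ⟨q.2⟩
      haveI := FittingCores.pCore_normal (G := G) (q : ℕ)
      obtain ⟨M, hMn, hM1, hle, hmin⟩ := exists_minimal_normal (N := Cfsg.pCore (q : ℕ) G) inferInstance hb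
      obtain ⟨p, hp, -, he, -, hall, -, -, -⟩ := hdata M ⟨hMn, hM1, hmin⟩
      have hqp : (q : ℕ) = p := by
        obtain ⟨m, hm, hm1⟩ := (Subgroup.bot_or_exists_ne_one M).resolve_left hM1
        haveI : Fact p.Prime := ⟨hp⟩
        obtain ⟨j, hj⟩ := IsPGroup.iff_orderOf.1 (FittingCores.pCore_isPGroup (G := G) (q : ℕ)) ⟨m, hle hm⟩
        rw [Subgroup.orderOf_mk, orderOf_eq_prime (he m hm) hm1] at hj
        exact ((Nat.prime_dvd_prime_iff_eq hp q.2).1 (hp.dvd_of_dvd_pow (dvd_of_eq hj))).symm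
      intro y hy
      obtain ⟨j, hj⟩ := IsPGroup.iff_orderOf.1 (FittingCores.pCore_isPGroup (G := G) (q : ℕ)) ⟨y, hy⟩
      rw [Subgroup.orderOf_mk, hqp] at hj
      exact hMF M ⟨hMn, hM1, hmin⟩ (hall y j hj)
    have hxC : x ∈ Subgroup.centralizer (F : Set G) := by
      have hle : F ≤ Subgroup.centralizer ({x} : Set G) := sSup_le fun M hM m hm =>
        Subgroup.mem_centralizer_iff.2 fun y hy => by
          rw [Set.mem_singleton_iff.1 hy]
          exact mul_inv_eq_iff_eq_mul.1 (hx M hM m hm)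
      exact Subgroup.mem_centralizer_iff.2 fun f hf => (Subgroup.mem_centralizer_iff.1 (hle hf) x rfl).symm
    exact hfit (FittingCores.centralizer_fitting_le
      (Subgroup.centralizer_le (SetLike.coe_subset_coe.2 hfit) hxC))
  have hhall : (Nat.card F).Coprime F.index := by
    refine Nat.coprime_of_dvd fun q hq hqF hqi => ?_
    haveI : Fact q.Prime := ⟨hq⟩
    let T : Subgroup G :=
      { carrier := {x | x ∈ F ∧ ∀ r : ℕ, r.Prime → r ∣ orderOf x → ∃ M ∈ 𝓜, ∀ y ∈ M, y ^ r = 1}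
        one_mem' := ⟨one_mem _, fun r hr h => absurd (orderOf_one (G := G) ▸ h) hr.not_dvd_one⟩
        mul_mem' := fun {a b} ha hb => ⟨mul_mem ha.1 hb.1, fun r hr h => by
          have hab : Commute a b := setLike_mul_comm ha.1 hb.1
          rcases (Nat.Prime.dvd_mul hr).1 (h.trans hab.orderOf_mul_dvd_mul_orderOf) with h' | h'
          · exact ha.2 r hr h'
          · exact hb.2 r hr h'⟩
        inv_mem' := fun {a} ha => ⟨inv_mem ha.1, by rw [orderOf_inv]; exact ha.2⟩ }
    have hle : F ≤ T := sSup_le fun M hM m hm => ⟨hMF M hM hm, fun r hr h => by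
      obtain ⟨p, hp, -, he, -⟩ := hdata M hM
      have hrp : r = p := (Nat.prime_dvd_prime_iff_eq hr hp).1 (h.trans (orderOf_dvd_of_pow_eq_one (he m hm)))
      exact ⟨M, hM, hrp ▸ he⟩⟩
    obtain ⟨y, hy⟩ := exists_prime_orderOf_dvd_card' q hqF
    rw [← Subgroup.orderOf_coe] at hy
    obtain ⟨M, hM, hMq⟩ := (hle y.2).2 q hq (dvd_of_eq hy.symm)
    obtain ⟨p, hp, -, he, -, hall, hidx, -, -⟩ := hdata M hM
    obtain ⟨m, hm, hm1⟩ := (Subgroup.bot_or_exists_ne_one M).resolve_left hM.2.1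
    haveI : Fact p.Prime := ⟨hp⟩
    have hqp : q = p := (orderOf_eq_prime (hMq m hm) hm1).symm.trans (orderOf_eq_prime (he m hm) hm1)
    exact hidx (hqp ▸ hqi.trans (Subgroup.index_dvd_of_le (hMF M hM)))
  -- intersections with `F`
  have hinfcard : ∀ X : Subgroup G, Nat.card (X ⊓ F : Subgroup G) = (Nat.card X).gcd (Nat.card F) := by
    intro X
    refine Nat.dvd_antisymm (Nat.dvd_gcd (Subgroup.card_dvd_of_le inf_le_left) (Subgroup.card_dvd_of_le inf_le_right)) ?_
    have h1 : Nat.card (X ⊓ F : Subgroup G) * F.relIndex X = Nat.card X := by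
      rw [← Subgroup.inf_relIndex_left, inf_comm X F, ← Subgroup.relIndex_bot_left,
        Subgroup.relIndex_mul_relIndex _ _ _ bot_le inf_le_right, Subgroup.relIndex_bot_left]
    have h2 : F.relIndex X ∣ F.index := Subgroup.relIndex_dvd_index_of_normal F X
    have h3 : ((Nat.card X).gcd (Nat.card F)).Coprime (F.relIndex X) :=
      (hhall.coprime_dvd_left (Nat.gcd_dvd_right _ _)).coprime_dvd_right h2
    exact h3.dvd_of_dvd_mul_right (h1.symm ▸ Nat.gcd_dvd_left _ _)
  have hmapF : ∀ X : Subgroup G, Nat.card (X ⊓ F : Subgroup G) * Nat.card (X.map (QuotientGroup.mk' F)) = Nat.card X := by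
    intro X
    rw [show Nat.card (X.map (QuotientGroup.mk' F)) = F.relIndex X by rw [← Subgroup.relIndex_ker, QuotientGroup.ker_mk'],
      ← Subgroup.inf_relIndex_left, inf_comm X F, ← Subgroup.relIndex_bot_left,
      Subgroup.relIndex_mul_relIndex _ _ _ bot_le inf_le_right, Subgroup.relIndex_bot_left]
  have hF1 : F ≠ ⊥ := by
    intro h
    haveI : Nontrivial H := Finite.one_lt_card_iff_nontrivial.1 (Nat.lt_of_le_of_ne Nat.card_pos (Ne.symm hH1))
    haveI : Nontrivial G := Subtype.coe_injective.nontrivial (α := H)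
    obtain ⟨M, hMn, hM1, -, hmin⟩ := exists_minimal_normal (G := G) (N := ⊤) inferInstance top_ne_bot
    exact hM1 (le_bot_iff.1 (h ▸ hMF M ⟨hMn, hM1, hmin⟩))
  obtain ⟨g, hg⟩ := quot F hF1 (Nat.eq_of_mul_eq_mul_left (Nat.card_pos (α := (H ⊓ F : Subgroup G))) (by
    rw [hmapF H, show Nat.card (H ⊓ F : Subgroup G) = Nat.card (K ⊓ F : Subgroup G) by rw [hinfcard, hinfcard, hHK],
      hmapF K, hHK]))
  set H' := MulAut.conj g • H with hH'
  have hH'c : Nat.card H' = Nat.card K := by rw [hH', card_conjSmul, hHK]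
  -- complements
  have hsplit : ∀ X : Subgroup G, ∃ L : Subgroup G, L ≤ X ∧ (Nat.card L).Coprime (Nat.card F) ∧ (X ⊓ F) ⊔ L = X ∧
      Nat.card (X ⊓ F : Subgroup G) * Nat.card L = Nat.card X := by
    intro X
    haveI : (F.subgroupOf X).Normal := inferInstance
    have hcF : Nat.card (F.subgroupOf X) = Nat.card (X ⊓ F : Subgroup G) := by
      rw [← Nat.card_congr (Subgroup.subgroupOfEquivOfLe (inf_le_left : X ⊓ F ≤ X)).toEquiv,
        Subgroup.inf_subgroupOf_left]
    obtain ⟨L, hL⟩ := Subgroup.exists_right_complement'_of_coprime (N := F.subgroupOf X) (by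
      rw [hcF]
      exact (hhall.coprime_dvd_left (Subgroup.card_dvd_of_le inf_le_right)).coprime_dvd_right
        (Subgroup.relIndex_dvd_index_of_normal F X))
    refine ⟨L.map X.subtype, Subgroup.map_subtype_le _, ?_, ?_, ?_⟩
    · rw [Subgroup.card_map_of_injective X.subtype_injective, ← hL.symm.index_eq_card]
      exact (hhall.coprime_dvd_right (Subgroup.relIndex_dvd_index_of_normal F X)).symm
    · rw [inf_comm, ← Subgroup.subgroupOf_map_subtype, ← Subgroup.map_sup, hL.sup_eq_top,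
        ← MonoidHom.range_eq_map, Subgroup.range_subtype]
    · rw [Subgroup.card_map_of_injective X.subtype_injective, ← hcF]
      exact hL.card_mul
  obtain ⟨L₀, hL₀, hL₀c, hL₀s, hL₀m⟩ := hsplit H'
  obtain ⟨L, hL, hLc, hLs, hLm⟩ := hsplit K
  have hLcard : Nat.card L = Nat.card L₀ := by
    refine Nat.eq_of_mul_eq_mul_left (Nat.card_pos (α := (K ⊓ F : Subgroup G))) ?_
    rw [hLm, ← hH'c, ← hL₀m, hinfcard, hinfcard, hH'c]
  have hLle : L ≤ F ⊔ L₀ := by
    refine (hL.trans le_sup_right).trans (hg.symm.le.trans (sup_le le_sup_left ?_))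
    conv_lhs => rw [← hL₀s]
    exact sup_le (inf_le_right.trans le_sup_left) le_sup_right
  obtain ⟨f, hf, hfL⟩ := conj_of_sup hL₀c hLle hLcard
  -- now `H₂ = W ⊔ L`
  set H₂ := MulAut.conj f • H' with hH₂
  set W := H₂ ⊓ F with hW
  set W' := K ⊓ F with hW'
  have hH₂s : W ⊔ L = H₂ := by
    refine le_antisymm (sup_le inf_le_left ?_) ?_
    · rw [← hfL, hH₂]; exact Subgroup.pointwise_smul_le_pointwise_smul_iff.2 hL₀
    · conv_lhs => rw [hH₂, ← hL₀s, Subgroup.smul_sup, hfL]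
      refine sup_le (le_trans ?_ le_sup_left) le_sup_right
      intro x hx
      rw [mem_conjSmul] at hx
      exact Subgroup.mem_inf.2 ⟨by rw [hH₂]; exact mem_conjSmul.2 hx.1,
        by simpa [mul_assoc] using hFn.conj_mem _ hx.2 f⟩
  have hLW : ∀ X : Subgroup G, L ≤ X → L ≤ Subgroup.normalizer ((X ⊓ F : Subgroup G) : Set G) := fun X hX =>
    (le_inf (hX.trans Subgroup.le_normalizer) (by rw [Subgroup.normalizer_eq_top]; exact le_top)).trans
      Subgroup.inf_normalizer_le_normalizer_inf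
  have hLH₂ : L ≤ H₂ := hH₂s ▸ le_sup_right
  have hWc : Nat.card W = Nat.card W' := by
    rw [hW, hW', hinfcard, hinfcard, hH₂, card_conjSmul, hH'c]
  have hab : ∀ X : Subgroup G, X ≤ F → IsMulCommutative X := fun X hX =>
    .of_setLike_mul_comm fun a ha b hb => setLike_mul_comm (hX ha) (hX hb)
  obtain ⟨t, ht⟩ := hB W W' (hab _ inf_le_right) (hab _ inf_le_right) hWc
  set L'' := MulAut.conj t⁻¹ • L with hL''
  set S := Subgroup.normalizer (W : Set G) with hS
  have hLS : L ≤ S := hLW H₂ hLH₂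
  have hL''S : L'' ≤ S := by
    intro x hx
    rw [hL'', mem_conjSmul, inv_inv] at hx
    have h1 := hLW K hL hx
    rw [← hW', ht, normalizer_conjSmul, mem_conjSmul] at h1
    simpa [mul_assoc] using h1
  have hchar : ∀ M ∈ 𝓜, HasChar M (W ⊓ M) := by
    intro M hM
    obtain ⟨p, hp, hMab, he, hMp, hall, hidx, hne, hnM⟩ := hdata M hM
    haveI := hM.1
    haveI := hMab
    haveI : Fact p.Prime := ⟨hp⟩
    have hWM : W ⊓ M = MulAut.conj (f * g) • (H ⊓ M) := by
      rw [hW, hH₂, hH', conjSmul_conjSmul, inf_assoc, inf_eq_right.2 (hMF M hM), Subgroup.smul_inf,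
        conjSmul_eq_self_of_mem_normalizer (H := M) (by rw [Subgroup.normalizer_eq_top]; trivial)]
    have h1 : W ⊓ M ≠ ⊥ := fun h => hne (Subgroup.card_eq_one.1 (by
      rw [← card_conjSmul (f * g), ← hWM, h, Subgroup.card_bot]))
    have h2 : W ⊓ M ≠ M := fun h => hnM (Subgroup.eq_of_le_of_card_ge inf_le_right (by
      rw [← card_conjSmul (f * g) (H ⊓ M), ← hWM, h]))
    obtain ⟨k, hk⟩ := IsPGroup.iff_card.1 hMp
    obtain ⟨a, ha⟩ := IsPGroup.iff_card.1 (hMp.to_le (inf_le_right : W ⊓ M ≤ M))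
    have hlt : Nat.card (W ⊓ M : Subgroup G) < Nat.card M :=
      lt_of_le_of_ne (Subgroup.card_le_of_le inf_le_right) fun h =>
        h2 (Subgroup.eq_of_le_of_card_ge inf_le_right h.ge)
    rw [ha, hk] at hlt
    have hak := (Nat.pow_lt_pow_iff_right hp.one_lt).1 hlt
    have ha0 : a ≠ 0 := fun e => h1 (Subgroup.card_eq_one.1 (by rw [ha, e, pow_zero]))
    rcases Nat.lt_or_ge k 3 with hk3 | hk3
    · have e2 : k = 2 := by omega
      have e1 : a = 1 := by omega
      subst e2 e1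
      exact hasChar_plane he hk hidx inf_le_right (by rw [ha, pow_one])
    · exact hB.hasChar_big he hMp hidx hk3 hk inf_le_right h1 h2
  haveI hcyc := isCyclic_stab F (IsB.quotient _ G rfl hB hs F) 𝓜 (fun M hM => hM.1)
    (fun M hM x hx m hm => setLike_mul_comm hx (hMF M hM hm)) hdet (fun M => W ⊓ M) S
    (fun M hM => (le_inf le_rfl (by haveI := hM.1; rw [Subgroup.normalizer_eq_top]; exact le_top)).trans
      Subgroup.inf_normalizer_le_normalizer_inf) hchar
  have heq : L''.map (QuotientGroup.mk' F) = L.map (QuotientGroup.mk' F) := by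
    have hle : ∀ X : Subgroup G, X ≤ S → X.map (QuotientGroup.mk' F) ≤ S.map (QuotientGroup.mk' F) :=
      fun X hX => Subgroup.map_mono hX
    have hcop'' : (Nat.card L'').Coprime (Nat.card F) := by rwa [hL'', card_conjSmul]
    have h := eq_of_card_cyclic
      (H := (L''.map (QuotientGroup.mk' F)).subgroupOf (S.map (QuotientGroup.mk' F)))
      (K := (L.map (QuotientGroup.mk' F)).subgroupOf (S.map (QuotientGroup.mk' F))) (by
        rw [Nat.card_congr (Subgroup.subgroupOfEquivOfLe (hle _ hL''S)).toEquiv,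
          Nat.card_congr (Subgroup.subgroupOfEquivOfLe (hle _ hLS)).toEquiv,
          card_map_mk'_of_inf_eq_bot (Subgroup.disjoint_of_coprime_natCard hcop'').eq_bot,
          card_map_mk'_of_inf_eq_bot (Subgroup.disjoint_of_coprime_natCard hLc).eq_bot, hL'', card_conjSmul])
    rw [← Subgroup.map_subgroupOf_eq_of_le (hle _ hL''S), h, Subgroup.map_subgroupOf_eq_of_le (hle _ hLS)]
  obtain ⟨f', hf', hfL''⟩ := conj_of_sup (M := F) (H := L'') (K := L) (by rwa [hL'', card_conjSmul]) (by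
    have := congrArg (Subgroup.comap (QuotientGroup.mk' F)) heq
    rw [Subgroup.comap_map_eq, Subgroup.comap_map_eq, QuotientGroup.ker_mk'] at this
    rw [sup_comm, this]; exact le_sup_left) (by rw [hL'', card_conjSmul])
  refine ⟨t * f'⁻¹ * (f * g), ?_⟩
  have hH₂eq : MulAut.conj (f * g) • H = W ⊔ L := by rw [hH₂s, hH₂, hH', conjSmul_conjSmul]
  have hfW : MulAut.conj f'⁻¹ • W = W := conjSmul_eq_self_of_mem_normalizer (inv_mem (by
    refine Subgroup.centralizer_le_normalizer _ (Subgroup.mem_centralizer_iff.2 fun w hw => ?_)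
    exact setLike_mul_comm (inf_le_right (a := H₂) hw) hf'))
  have hfL : MulAut.conj f'⁻¹ • L = L'' := by rw [← hfL'', conjSmul_inv_conjSmul]
  rw [← conjSmul_conjSmul, hH₂eq, ← conjSmul_conjSmul, Subgroup.smul_sup, hfW, hfL, Subgroup.smul_sup, ← ht,
    hL'', conjSmul_conjSmul, mul_inv_cancel, conjSmul_one, hW', hLs]

end Cfsg.Agent.BGroup
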