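import Mathlib.GroupTheory.SpecificGroups.Cyclic
import Mathlib.GroupTheory.OrderOfElement
import Mathlib.Data.Nat.Factorization.Induction
import Mathlib.Tactic

/-! An abelian group with at most one subgroup of each prime order is cyclic. -/

set_option autoImplicit false

namespace Cfsg.Agent.BGroup

theorem isCyclic_of_unique_prime {A : Type*} [CommGroup A] [Finite A]
    (h : ∀ r : ℕ, r.Prime → ∀ x y : A, orderOf x = r → orderOf y = r → y ∈ Subgroup.zpowers x) : IsCyclic A := by
  classical
  haveI := Fintype.ofFinite A
  have key : ∀ n : ℕ, 0 < n → (Finset.univ.filter fun a : A => a ^ n = 1).card ≤ n := by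
    intro n
    induction n using Nat.recOnMul with
    | zero => intro h; omega
    | one =>
      intro _
      refine Finset.card_le_one.2 ?_
      intro a ha b hb
      simp at ha hb
      rw [ha, hb]
    | prime r hr =>
      intro _
      by_cases hx : ∃ x : A, orderOf x = r
      · obtain ⟨x, hx⟩ := hx
        calc _ ≤ (Subgroup.zpowers x : Set A).toFinset.card := by
              refine Finset.card_le_card fun a ha => ?_
              simp only [Finset.mem_filter, Finset.mem_univ, true_and] at ha
              rw [Set.mem_toFinset, SetLike.mem_coe]
              by_cases ha1 : a = 1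
              · rw [ha1]; exact one_mem _
              · haveI : Fact r.Prime := ⟨hr⟩
                exact h r hr x a hx (orderOf_eq_prime ha ha1)
          _ = r := by
              rw [Set.toFinset_card, ← Nat.card_eq_fintype_card, SetLike.coe_sort_coe, Nat.card_zpowers, hx]
      · refine le_trans (Finset.card_le_one.2 ?_) hr.one_lt.le
        intro a ha b hb
        simp only [Finset.mem_filter, Finset.mem_univ, true_and] at ha hb
        haveI : Fact r.Prime := ⟨hr⟩
        have e : ∀ c : A, c ^ r = 1 → c = 1 := fun c hc => by
          by_contra hc1
          exact hx ⟨c, orderOf_eq_prime hc hc1⟩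
        rw [e a ha, e b hb]
    | mul a b ha hb =>
      intro hab
      have hapos : 0 < a := Nat.pos_of_ne_zero fun e => by simp [e] at hab
      have hbpos : 0 < b := Nat.pos_of_ne_zero fun e => by simp [e] at hab
      calc _ ≤ a * (Finset.univ.filter fun y : A => y ^ b = 1).card := by
            refine Finset.card_le_mul_card_image_of_maps_to (f := fun y : A => y ^ a) ?_ a ?_
            · intro y hy
              simp only [Finset.mem_filter, Finset.mem_univ, true_and] at hy ⊢
              rw [← pow_mul, hy]
            · intro w _
              rcases Finset.eq_empty_or_nonempty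
                ((Finset.univ.filter fun y : A => y ^ (a * b) = 1).filter fun y => y ^ a = w) with he | ⟨y₀, hy₀⟩
              · rw [he]; simp
              · refine le_trans (Finset.card_le_card_of_injOn (fun y => y * y₀⁻¹) ?_ ?_) (ha hapos)
                · intro y hy
                  simp only [Finset.coe_filter, Finset.mem_filter, Finset.mem_univ, true_and, Set.mem_setOf_eq] at hy hy₀ ⊢
                  rw [mul_pow, inv_pow, hy.2, hy₀.2, mul_inv_cancel]
                · intro y _ y' _ e
                  exact mul_right_cancel e
        _ ≤ a * b := Nat.mul_le_mul_left a (hb hbpos)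
  exact isCyclic_of_card_pow_eq_one_le key

end Cfsg.Agent.BGroup
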