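import Cfsg.Agent.Lib.BGroup.Quotient
import Cfsg.Agent.Lib.Solvable.Fitting

/-! Quaternion subgroups of solvable groups with conjugate abelian subgroups are Sylow subgroups. -/

set_option autoImplicit false
open scoped Pointwise

universe u

namespace Cfsg.Agent.BGroup

open SolvBasic

variable {G : Type u} [Group G]

/-- A pair generating a quaternion group of order eight. -/
def QuatPair (x y z : G) : Prop :=
  x ^ 2 = z ∧ y ^ 2 = z ∧ z ^ 2 = 1 ∧ z ≠ 1 ∧ y * x * y⁻¹ = z * x

theorem IsUniq.exists_quatPair [Finite G] {M : Subgroup G} [M.Normal] (hu : IsUniq 2 M) {P : Subgroup G}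
    (hP : IsPGroup 2 P) (hPM : ∀ a ∈ P, ∀ b ∈ P, a * b * a⁻¹ * b⁻¹ ∈ M) (hna : ¬ IsMulCommutative P) :
    ∃ x y z : G, QuatPair x y z := by
  haveI : Fact (Nat.Prime 2) := ⟨Nat.prime_two⟩
  obtain ⟨x, hx, y, hy, hxy, i, j, hij, hox, hoy⟩ := hu.exists_order hP hna
  obtain ⟨k, c, hc, hcx, hk⟩ := hu.correct hox hoy hij (hPM x hx y hy)
  rw [Nat.choose_self, pow_one] at hk
  set y' := y * x ^ k with hy'
  have hy'P : y' ∈ P := mul_mem hy (zpow_mem hx k)
  have hncom : ¬ Commute y' x := fun h => hxy (by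
    have h2 : Commute (y' * (x ^ k)⁻¹) x := h.mul_left (Commute.self_zpow x k).symm.inv_left
    rw [hy', mul_inv_cancel_right] at h2
    exact h2.eq.symm)
  have hc1 : c ≠ 1 := fun e => hncom (hu.commute_mem hox (hu.2 _ (hk.trans e)))
  obtain ⟨a, b, hab, huniv⟩ := Nat.card_eq_two_iff.1 hu.1
  have h2el : ∀ w ∈ M, w = 1 ∨ w = c := fun w hw => by
    have hh : ∀ v : M, v = a ∨ v = b := fun v => by
      have : v ∈ ({a, b} : Set M) := huniv ▸ Set.mem_univ v
      simpa using this
    have hne : (⟨c, hc⟩ : M) ≠ 1 := fun e => hc1 (congrArg Subtype.val e)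
    rcases hh ⟨w, hw⟩ with e | e <;> rcases hh 1 with e1 | e1 <;> rcases hh ⟨c, hc⟩ with e2 | e2 <;>
      first
        | exact absurd (e2.trans e1.symm) hne
        | exact Or.inl (congrArg Subtype.val (e.trans e1.symm))
        | exact Or.inr (congrArg Subtype.val (e.trans e2.symm))
  have hmod : y' * x * y'⁻¹ = c * x := by
    rcases h2el _ (hPM y' hy'P x hx) with e | e
    · exact absurd (mul_inv_eq_iff_eq_mul.1 (mul_inv_eq_one.1 e)) hncom
    · rw [← e]; group
  have hc2 : c ^ 2 = 1 := by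
    rw [← hu.1]; exact orderOf_dvd_iff_pow_eq_one.1 (Subgroup.orderOf_dvd_natCard _ hc)
  have hj1 : j = 1 := by
    rcases j with _ | _ | j
    · have hxM : x ∈ M := hu.2 x (by rw [← orderOf_dvd_iff_pow_eq_one, hox]; simp)
      obtain ⟨t, ht⟩ := IsPGroup.iff_orderOf.1 hP ⟨y', hy'P⟩
      rw [Subgroup.orderOf_mk] at ht
      exact absurd (hu.commute_mem ht hxM).symm hncom
    · rfl
    · exfalso
      set w := x ^ 2 ^ j with hw
      have hwp : x ^ 2 ^ j = (x ^ 2) ^ 2 ^ (j - 1) ∨ j = 0 := by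
        rcases j with _ | j
        · exact Or.inr rfl
        · exact Or.inl (by rw [← pow_mul, ← pow_succ']; simp)
      have hyx2 : Commute y' (x ^ 2 ^ (j + 1)) := by
        have h1 : y' * x ^ 2 * y'⁻¹ = x ^ 2 := by
          rw [← conj_pow, hmod, hcx.mul_pow, hc2, one_mul]
        have h2 : Commute y' (x ^ 2) := mul_inv_eq_iff_eq_mul.1 h1
        rw [pow_succ' 2 j, pow_mul]
        exact h2.pow_right _
      set v := x ^ 2 ^ (j + 1) with hv
      have hov : orderOf v = 4 := by
        rw [hv, orderOf_pow_of_dvd (by positivity) (hox ▸ pow_dvd_pow 2 (by omega)), hox,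
          Nat.pow_div (by omega) two_pos, show j + 1 + 1 + 1 - (j + 1) = 2 by omega]
        norm_num
      have hv2 : v ^ 2 = c := by
        have hmem : v ^ 2 ∈ M := hu.2 _ (by
          rw [← pow_mul, show 2 * 2 = 4 by norm_num, ← hov, pow_orderOf_eq_one])
        refine (h2el _ hmem).resolve_left fun e => ?_
        have := Nat.le_of_dvd two_pos (hov ▸ orderOf_dvd_of_pow_eq_one e)
        omega
      have hmem : y' * v⁻¹ ∈ M := hu.2 _ (by rw [hyx2.inv_right.mul_pow, inv_pow, hk, hv2, mul_inv_cancel])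
      refine hncom ?_
      have h1 : Commute (y' * v⁻¹ * v) x := (hu.commute_mem hox hmem).mul_left (hv ▸ (Commute.self_pow x _).symm)
      rwa [inv_mul_cancel_right] at h1
  refine ⟨x, y', c, (h2el _ (hu.2 _ ?_)).resolve_left (fun e => ?_), hk, hc2, hc1, hmod⟩
  · rw [← pow_mul, ← orderOf_dvd_iff_pow_eq_one, hox, hj1]
    norm_num
  · have := Nat.le_of_dvd two_pos (orderOf_dvd_of_pow_eq_one e)
    rw [hox, hj1] at this
    norm_num at this

theorem QuatPair.orderOf_left {x y z : G} (h : QuatPair x y z) : orderOf x = 4 := by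
  obtain ⟨hx, -, hz, hz1, -⟩ := h
  haveI : Fact (Nat.Prime 2) := ⟨Nat.prime_two⟩
  exact orderOf_eq_prime_pow (p := 2) (n := 1) (by rwa [pow_one, hx])
    (by rw [show 2 ^ (1 + 1) = 2 * 2 from rfl, pow_mul, hx, hz])

theorem QuatPair.orderOf_right {x y z : G} (h : QuatPair x y z) : orderOf y = 4 := by
  obtain ⟨-, hy, hz, hz1, -⟩ := h
  haveI : Fact (Nat.Prime 2) := ⟨Nat.prime_two⟩
  exact orderOf_eq_prime_pow (p := 2) (n := 1) (by rwa [pow_one, hy])
    (by rw [show 2 ^ (1 + 1) = 2 * 2 from rfl, pow_mul, hy, hz])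

theorem QuatPair.not_commute {x y z : G} (h : QuatPair x y z) : ¬ Commute x y := fun hc =>
  h.2.2.2.1 (by
    have e := h.2.2.2.2
    rw [hc.symm.eq, mul_inv_cancel_right, right_eq_mul] at e
    exact e)

theorem factorization_quot_odd [Finite G] {M : Subgroup G} [M.Normal] (hodd : ¬ 2 ∣ Nat.card M) :
    (Nat.card G).factorization 2 = (Nat.card (G ⧸ M)).factorization 2 := by
  rw [Subgroup.card_eq_card_quotient_mul_card_subgroup M,
    Nat.factorization_mul Nat.card_pos.ne' Nat.card_pos.ne', Finsupp.add_apply,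
    Nat.factorization_eq_zero_of_not_dvd hodd, add_zero]

/-- A quaternion pair only occurs when the Sylow 2-subgroups have order at most eight. -/
theorem quat_bound : ∀ (n : ℕ) (G : Type u) [Group G] [Finite G], Nat.card G = n → IsB G → Group.IsSolvable G →
    ∀ x y z : G, QuatPair x y z → (Nat.card G).factorization 2 ≤ 3 := by
  intro n
  induction n using Nat.strong_induction_on with
  | _ n ih =>
  intro G _ _ hn hB hs x y z hq
  haveI := hs
  haveI : Fact (Nat.Prime 2) := ⟨Nat.prime_two⟩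
  by_cases hN : ∃ N : Subgroup G, N.Normal ∧ N ≠ ⊥ ∧ Odd (Nat.card N)
  · obtain ⟨N, hNn, hN1, hNodd⟩ := hN
    obtain ⟨M, p, hp, hMn, hM1, hMN, hMab, he, hMp, -⟩ := exists_minimal_normal_abelian hNn hN1
    haveI := hMn
    haveI := hMab
    haveI : Fact p.Prime := ⟨hp⟩
    have hodd : ¬ 2 ∣ Nat.card M := fun h =>
      (Nat.not_even_iff_odd.2 hNodd) (even_iff_two_dvd.2 (h.trans (Subgroup.card_dvd_of_le hMN)))
    have hp2 : p ≠ 2 := by
      rintro rfl
      obtain ⟨k, hk⟩ := IsPGroup.iff_card.1 hMp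
      rcases k with _ | k
      · exact hM1 (Subgroup.card_eq_one.1 (by simpa using hk))
      · exact hodd (hk ▸ dvd_pow_self 2 k.succ_ne_zero)
    have hlt : Nat.card (G ⧸ M) < n := by
      have h1 : 1 < Nat.card M :=
        Nat.lt_of_le_of_ne Nat.card_pos (Ne.symm fun h => hM1 (Subgroup.card_eq_one.1 h))
      rw [← hn, Subgroup.card_eq_card_quotient_mul_card_subgroup M]
      exact (lt_mul_iff_one_lt_right Nat.card_pos).2 h1
    obtain ⟨hx, hy, hz, hz1, hcon⟩ := hq
    rw [factorization_quot_odd hodd]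
    refine ih _ hlt (G ⧸ M) rfl (hB.quotient_minimal_odd hp2 hM1 he hMp) inferInstance
      (QuotientGroup.mk' M x) (QuotientGroup.mk' M y) (QuotientGroup.mk' M z)
      ⟨by rw [← map_pow, hx], by rw [← map_pow, hy], by rw [← map_pow, hz, map_one], fun h => ?_,
        by rw [← map_inv, ← map_mul, ← map_mul, ← map_mul, hcon]⟩
    have hzM : z ∈ M := (QuotientGroup.eq_one_iff z).1 h
    exact hodd ((orderOf_eq_prime hz hz1) ▸ Subgroup.orderOf_dvd_natCard _ hzM)
  push Not at hN
  have hx4 := hq.orderOf_left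
  have hy4 := hq.orderOf_right
  have hncxy := hq.not_commute
  obtain ⟨hx, hy, hz, hz1, hcon⟩ := hq
  -- the unique minimal normal subgroup
  obtain ⟨M, p, hp, hMn, hM1, -, hMab, he, hMp, -⟩ :=
    exists_minimal_normal_abelian (N := (⊤ : Subgroup G)) inferInstance
      (fun h => by
        have hx' : x ∈ (⊤ : Subgroup G) := trivial
        rw [h, Subgroup.mem_bot] at hx'
        rw [hx', orderOf_one] at hx4
        omega)
  haveI := hMn
  haveI := hMab
  obtain rfl : p = 2 := by
    by_contra hp2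
    haveI : Fact p.Prime := ⟨hp⟩
    obtain ⟨k, hk⟩ := IsPGroup.iff_card.1 hMp
    exact hN M hMn hM1 (hk ▸ (hp.odd_of_ne_two hp2).pow)
  have hzM : z ∈ M := hB.mem_of_pow_eq_one hM1 he hz
  have hxM : x ∉ M := fun h => hz1 (hx ▸ he x h)
  have hu : IsUniq 2 M := ⟨by
    by_contra hne
    exact hxM (hB.mem_of_card_ne hM1 he hMp hne (j := 2) (by rw [hx4]; norm_num)),
    fun w hw => hB.mem_of_pow_eq_one hM1 he hw⟩
  have hMc : ∀ m ∈ M, ∀ w : G, Commute m w := by
    intro m hm w
    have hw := ‹M.Normal›.conj_mem m hm w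
    have h2 : ∀ v ∈ M, v = 1 ∨ v = z := fun v hv => by
      by_contra h
      push Not at h
      have hsub : ({⟨1, M.one_mem⟩, ⟨z, hzM⟩, ⟨v, hv⟩} : Set M).ncard ≤ Nat.card M := Set.ncard_le_card _
      rw [hu.1, Set.ncard_insert_of_notMem (by simp [Subtype.ext_iff, hz1.symm, h.1.symm]) (Set.toFinite _),
        Set.ncard_pair (by simp [Subtype.ext_iff, h.2.symm])] at hsub
      omega
    rcases h2 m hm with rfl | rfl
    · exact Commute.one_left w
    · rcases h2 _ hw with e | e
      · rw [conj_eq_one_iff] at e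
        exact absurd e hz1
      · exact (mul_inv_eq_iff_eq_mul.1 e).symm
  set T := Cfsg.pCore 2 G with hT
  haveI hTn : T.Normal := FittingCores.pCore_normal 2
  have hTp : IsPGroup 2 T := FittingCores.pCore_isPGroup 2
  have h4T : ∀ (N : Subgroup G) [N.Normal], (∃ w ∈ N, orderOf w = 4) → ∀ w, orderOf w = 4 → w ∈ N :=
    fun N _ ⟨w, hw, hw4⟩ v hv => hB.mem_of_orderOf_eq hw (hv.trans hw4.symm)
  have hpow4 : ∀ (N : Subgroup G), IsPGroup 2 N → ∀ w ∈ N, w ∉ M → ∃ v ∈ N, orderOf v = 4 ∧ ∃ k : ℕ, v = w ^ k := by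
    intro N hNp w hw hwM
    obtain ⟨k, hk⟩ := IsPGroup.iff_orderOf.1 hNp ⟨w, hw⟩
    rw [Subgroup.orderOf_mk] at hk
    rcases Nat.lt_or_ge k 2 with h | h
    · exfalso
      refine hwM (hu.2 w (orderOf_dvd_iff_pow_eq_one.1 (hk ▸ ?_)))
      calc 2 ^ k ∣ 2 ^ 1 := pow_dvd_pow 2 (by omega)
        _ = 2 := pow_one 2
    · refine ⟨w ^ 2 ^ (k - 2), pow_mem hw _, ?_, _, rfl⟩
      rw [orderOf_pow_of_dvd (by positivity) (hk ▸ pow_dvd_pow 2 (by omega)), hk, Nat.pow_div (by omega) two_pos,
        show k - (k - 2) = 2 by omega]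
      norm_num
  -- `T` contains the quaternion group
  have hTM : ¬ T ≤ M := by
    intro hle
    have hFT : Cfsg.fittingSubgroup G ≤ T := by
      rw [FittingCores.fitting_eq_iSup_pCore]
      refine iSup_le fun q => ?_
      by_cases hq2 : (q : ℕ) = 2
      · rw [hq2]
      · by_contra hne
        have hne' : Cfsg.pCore (q : ℕ) G ≠ ⊥ := fun h => hne (h ▸ bot_le)
        haveI : Fact (q : ℕ).Prime := ⟨q.2⟩
        obtain ⟨k, hk⟩ := IsPGroup.iff_card.1 (FittingCores.pCore_isPGroup (G := G) (q : ℕ))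
        exact hN _ (FittingCores.pCore_normal _) hne' (hk ▸ ((Fact.out : (q : ℕ).Prime).odd_of_ne_two hq2).pow)
    have h1 := FittingCores.centralizer_fitting_le (G := G)
    exact hxM (hle (hFT (h1 (Subgroup.mem_centralizer_iff.2 fun f hf => (hMc f (hle (hFT hf)) x).eq))))
  obtain ⟨w0, hw0, hw0M⟩ := SetLike.not_le_iff_exists.1 hTM
  have h4 : ∀ w, orderOf w = 4 → w ∈ T := fun w hw => by
    obtain ⟨v, hv, hv4, -⟩ := hpow4 T hTp w0 hw0 hw0M
    exact h4T T ⟨v, hv, hv4⟩ w hw
  have hcenM : ∀ w ∈ T, (∀ t ∈ T, Commute w t) → w ∈ M := by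
    intro w hw hwc
    by_contra hwM
    obtain ⟨v, hv, hv4, k, rfl⟩ := hpow4 T hTp w hw hwM
    have hmem : w ^ k ∈ T ⊓ Subgroup.centralizer (T : Set G) :=
      ⟨hv, Subgroup.mem_centralizer_iff.2 fun t ht => ((hwc t ht).symm.pow_right k).eq⟩
    exact hncxy (Subgroup.mem_centralizer_iff.1 (h4T _ ⟨_, hmem, hv4⟩ y hy4).2 x (h4 x hx4))
  -- commutators of elements of order four with `T`
  have h4com : ∀ v, orderOf v = 4 → ∀ t ∈ T, v * t * v⁻¹ * t⁻¹ ∈ M := by
    set f := QuotientGroup.mk' M with hf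
    haveI : Nontrivial (T.map f : Subgroup (G ⧸ M)) := by
      rw [Subgroup.nontrivial_iff_ne_bot, Ne, Subgroup.map_eq_bot_iff, QuotientGroup.ker_mk']
      exact hTM
    haveI := (hTp.map f).center_nontrivial
    obtain ⟨⟨⟨u, hu'⟩, huc⟩, hune⟩ := exists_ne (1 : Subgroup.center (T.map f : Subgroup (G ⧸ M)))
    obtain ⟨u, huT, rfl⟩ := hu'
    set W := T ⊓ (Subgroup.centralizer (T.map f : Set (G ⧸ M))).comap f with hW
    haveI : (T.map f).Normal := hTn.map f (QuotientGroup.mk'_surjective M)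
    haveI : W.Normal := inferInstance
    have huW : u ∈ W := ⟨huT, Subgroup.mem_centralizer_iff.2 fun t ht => by
      exact congrArg Subtype.val (Subgroup.mem_center_iff.1 huc ⟨t, ht⟩)⟩
    have huM : u ∉ M := fun h => hune (Subtype.ext (Subtype.ext ((QuotientGroup.eq_one_iff u).2 h)))
    obtain ⟨v0, hv0, hv04, -⟩ := hpow4 W (hTp.to_le inf_le_left) u huW huM
    intro v hv t ht
    have h := Subgroup.mem_centralizer_iff.1 (h4T W ⟨v0, hv0, hv04⟩ v hv).2 (f t) ⟨t, ht, rfl⟩
    rw [← QuotientGroup.eq_one_iff]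
    show f (v * t * v⁻¹ * t⁻¹) = 1
    rw [map_mul, map_mul, map_mul, map_inv, map_inv, ← h]
    group
  have hM2 : ∀ v ∈ M, v = 1 ∨ v = z := fun v hv => by
    by_contra h
    push Not at h
    have hsub : ({⟨1, M.one_mem⟩, ⟨z, hzM⟩, ⟨v, hv⟩} : Set M).ncard ≤ Nat.card M := Set.ncard_le_card _
    rw [hu.1, Set.ncard_insert_of_notMem (by simp [Subtype.ext_iff, hz1.symm, h.1.symm]) (Set.toFinite _),
      Set.ncard_pair (by simp [Subtype.ext_iff, h.2.symm])] at hsub
    omega
  have hsq : ∀ v, orderOf v = 4 → v ^ 2 = z := fun v hv => by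
    refine (hM2 _ (hu.2 _ (by rw [← pow_mul, show 2 * 2 = 4 by norm_num, ← hv, pow_orderOf_eq_one]))).resolve_left
      fun e => ?_
    have := Nat.le_of_dvd two_pos (hv ▸ orderOf_dvd_of_pow_eq_one e)
    omega
  -- centralizers in `T` of elements of order four
  have hCT : ∀ a, orderOf a = 4 → ∀ t ∈ T, Commute t a → t ∈ Subgroup.zpowers a := by
    intro a ha t ht hta
    obtain ⟨k, hk⟩ := IsPGroup.iff_orderOf.1 hTp ⟨t, ht⟩
    rw [Subgroup.orderOf_mk] at hk
    by_contra hta'
    rcases Nat.lt_or_ge k 3 with h | h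
    · exact hta' (hu.mem_zpowers (j := 1) (by rw [ha]; norm_num) hk (by omega) hta.symm)
    · obtain ⟨b, hb4, hb⟩ : ∃ b, orderOf b = 4 ∧ ¬ Commute a b := by
        by_contra hall
        push Not at hall
        obtain ⟨c, rfl⟩ := Subgroup.mem_zpowers_iff.1 (show x ∈ Subgroup.zpowers a from
          hu.mem_zpowers (j := 1) (i := 2) (by rw [ha]; norm_num) (by rw [hx4]; norm_num) le_rfl (hall x hx4))
        exact hncxy ((hall y hy4).zpow_left c)
      have hyt : b * t * b⁻¹ * t⁻¹ ∈ M := h4com b hb4 t ht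
      have hb2 : Commute b (t ^ 2) := by
        refine mul_inv_eq_iff_eq_mul.1 ?_
        have e : b * t * b⁻¹ = (b * t * b⁻¹ * t⁻¹) * t := by group
        rw [← conj_pow, e, (hMc _ hyt t).mul_pow, he _ hyt, one_mul]
      obtain ⟨c, hc⟩ := Subgroup.mem_zpowers_iff.1 (hu.mem_zpowers (i := 2) (j := k - 2)
        (a := t ^ 2) (b := a) (by
          rw [orderOf_pow_of_dvd (by norm_num) (hk ▸ dvd_pow_self 2 (by omega)), hk]
          conv_lhs => rw [show k = (k - 2 + 1) + 1 by omega, pow_succ, Nat.mul_div_cancel _ two_pos])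
        (by rw [ha]; norm_num) (by omega) (hta.pow_left 2))
      exact hb ((hc ▸ hb2.zpow_right c : Commute b a).symm)
  have hneg : ∀ a b : G, orderOf a = 4 → b ∈ T → ¬ Commute a b → a * b * a⁻¹ = z * b := fun a b ha hb hab => by
    rcases hM2 _ (h4com a ha b hb) with e | e
    · exact absurd (mul_inv_eq_iff_eq_mul.1 (mul_inv_eq_one.1 e)) hab
    · rw [← e]; group
  have hsplit : ∀ a b : G, orderOf a = 4 → b ∈ T → ¬ Commute a b → ∀ t ∈ T,
      t ∈ Subgroup.zpowers a ∨ b⁻¹ * t ∈ Subgroup.zpowers a := by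
    intro a b ha hb hab t ht
    by_cases hta : Commute a t
    · exact Or.inl (hCT a ha t ht hta.symm)
    · refine Or.inr (hCT a ha _ (mul_mem (inv_mem hb) ht) (Commute.symm ?_))
      refine mul_inv_eq_iff_eq_mul.1 ?_
      calc a * (b⁻¹ * t) * a⁻¹ = (a * b * a⁻¹)⁻¹ * (a * t * a⁻¹) := by group
        _ = b⁻¹ * t := by rw [hneg a b ha hb hab, hneg a t ha ht hta]; group
  have hxy : ¬ Commute x y := hncxy
  have hT8 : Nat.card T ≤ 8 := by
    have hsub : (T : Set G) ⊆ (Subgroup.zpowers x : Set G) ∪ (y * ·) '' (Subgroup.zpowers x : Set G) := fun t ht => by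
      rcases hsplit x y hx4 (h4 y hy4) hxy t ht with h | h
      · exact Or.inl h
      · exact Or.inr ⟨_, h, mul_inv_cancel_left y t⟩
    have h1 := Set.ncard_le_ncard hsub
    have h2 := Set.ncard_union_le (Subgroup.zpowers x : Set G) ((y * ·) '' (Subgroup.zpowers x : Set G))
    rw [Set.ncard_image_of_injective _ (mul_right_injective y), ← Nat.card_coe_set_eq (Subgroup.zpowers x : Set G),
      SetLike.coe_sort_coe, Nat.card_zpowers, hx4] at h2
    rw [← Nat.card_coe_set_eq, SetLike.coe_sort_coe] at h1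
    omega
  have hzpow : ∀ a, orderOf a = 4 → ∀ t ∈ Subgroup.zpowers a, t ∈ M ∨ ∃ m ∈ M, t = m * a := by
    intro a ha t ht
    obtain ⟨c, rfl⟩ := Subgroup.mem_zpowers_iff.1 ht
    have h2M : a ^ (2 : ℤ) ∈ M := by
      rw [zpow_ofNat, hsq a ha]; exact hzM
    obtain ⟨d, rfl | rfl⟩ := Int.even_or_odd' c
    · exact Or.inl (by rw [zpow_mul]; exact zpow_mem h2M d)
    · exact Or.inr ⟨(a ^ (2 : ℤ)) ^ d, zpow_mem h2M d, by rw [← zpow_mul, ← zpow_add_one]⟩
  have hTle : ∀ t ∈ T, t ^ 4 = 1 := by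
    intro t ht
    have h4' : ∀ m ∈ M, m ^ 4 = 1 := fun m hm => by
      rw [show 4 = 2 * 2 by norm_num, pow_mul, he m hm, one_pow]
    rcases hsplit x y hx4 (h4 y hy4) hxy t ht with h | h
    · obtain ⟨c, rfl⟩ := Subgroup.mem_zpowers_iff.1 h
      rw [← zpow_natCast, ← zpow_mul, mul_comm, zpow_mul, zpow_natCast, ← hx4, pow_orderOf_eq_one, one_zpow]
    · rcases hzpow x hx4 _ h with h' | ⟨m, hm, e⟩
      · rw [← mul_inv_cancel_left y t, (hMc _ h' y).symm.mul_pow, h4' _ h']
        rw [mul_one, ← hy4, pow_orderOf_eq_one]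
      · have : t ^ 2 ∈ M := by
          rw [← mul_inv_cancel_left y t, e, ← mul_assoc, (hMc m hm y).symm.eq, mul_assoc,
            (hMc m hm (y * x)).mul_pow, he m hm, one_mul, pow_two]
          have : y * x * (y * x) = (y * x * y⁻¹) * (y ^ 2) * x := by group
          rw [this, hcon, hy, show z * x * z * x = z * x * (z * x) by group, ← pow_two,
            (hMc z hzM x).mul_pow, hz, one_mul, hx]
          exact hzM
        rw [show 4 = 2 * 2 by norm_num, pow_mul, he _ this]
  -- every 2-element lies in `T`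
  have hall : ∀ (k : ℕ) (g : G), g ^ 2 ^ k = 1 → g ∈ T := by
    intro k
    induction k with
    | zero => intro g hg; simp at hg; exact hg ▸ T.one_mem
    | succ k ih =>
      intro g hg
      have hk : g ^ 2 ∈ T := ih _ (by rwa [← pow_mul, ← pow_succ'])
      by_contra hgT
      have hg4 : g ^ 4 ≠ 1 := fun h => by
        obtain ⟨j, hj, he'⟩ := (Nat.dvd_prime_pow Nat.prime_two).1
          (orderOf_dvd_of_pow_eq_one h : orderOf g ∣ 2 ^ 2)
        rcases Nat.lt_or_ge j 2 with hj' | hj'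
        · refine hgT (h4T T ⟨x, h4 x hx4, hx4⟩ x hx4 |> fun _ => ?_)
          have : g ∈ M := hu.2 g (orderOf_dvd_iff_pow_eq_one.1 (he' ▸ by
            calc 2 ^ j ∣ 2 ^ 1 := pow_dvd_pow 2 (by omega)
              _ = 2 := pow_one 2))
          rcases hM2 g this with rfl | rfl
          · exact T.one_mem
          · exact hx ▸ pow_mem (h4 x hx4) 2
        · exact hgT (h4 g (by rw [he', show j = 2 by omega]; norm_num))
      set v := g ^ 2 with hv
      have hv4 : orderOf v = 4 := orderOf_eq_prime_pow (p := 2) (n := 1)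
        (by rw [pow_one, hv, ← pow_mul]; exact hg4) (hTle v hk)
      obtain ⟨i, hi4, hiv⟩ : ∃ i, orderOf i = 4 ∧ ¬ Commute v i := by
        by_contra hh
        push Not at hh
        obtain ⟨c, hc⟩ := Subgroup.mem_zpowers_iff.1 (hCT v hv4 x (h4 x hx4) (hh x hx4).symm)
        exact hxy (hc ▸ (hh y hy4).zpow_left c)
      set j := g * i * g⁻¹ with hj
      have hj4 : orderOf j = 4 := by rw [hj, ← MulAut.conj_apply, MulEquiv.orderOf_eq, hi4]
      have hgv : Commute g v := Commute.self_pow g 2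
      have hjv : ¬ Commute v j := fun h => hiv (by
        have := h.map (MulAut.conj g⁻¹).toMonoidHom
        rwa [show (MulAut.conj g⁻¹).toMonoidHom v = v by simp [hgv.symm.eq, mul_assoc],
          show (MulAut.conj g⁻¹).toMonoidHom j = i by simp [hj, mul_assoc]] at this)
      rcases hsplit v i hv4 (h4 i hi4) hiv j (h4 j hj4) with h | h
      · exact hjv (by
          obtain ⟨c, hc⟩ := Subgroup.mem_zpowers_iff.1 h
          exact hc ▸ Commute.self_zpow v c)
      rcases hzpow v hv4 _ h with hm | ⟨m, hm, e⟩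
      · -- `v` would commute with `i`
        apply hiv
        have e1 : g * i * g⁻¹ = (i⁻¹ * j) * i := by
          rw [(hMc _ hm i).eq, mul_inv_cancel_left]
        refine mul_inv_eq_iff_eq_mul.1 ?_
        calc v * i * v⁻¹ = g * (g * i * g⁻¹) * g⁻¹ := by simp [hv, pow_two, mul_assoc]
          _ = g * ((i⁻¹ * j) * i) * g⁻¹ := by rw [e1]
          _ = (i⁻¹ * j) * (g * i * g⁻¹) := by rw [← mul_assoc g, ← (hMc _ hm g).eq]; group
          _ = (i⁻¹ * j) * ((i⁻¹ * j) * i) := by rw [e1]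
          _ = i := by rw [← mul_assoc, ← pow_two, he _ hm, one_mul]
      · have hgi4 : (g * i) ^ 4 = 1 := by
          have ej : j = i * (m * v) := by rw [← e, mul_inv_cancel_left]
          have h2 : (g * i) ^ 2 ∈ M := by
            have : (g * i) ^ 2 = j * v * i := by rw [pow_two, hj, hv]; group
            rw [this, ej, show i * (m * v) * v * i = i * (m * (v ^ 2)) * i by simp [pow_two, mul_assoc], hsq v hv4,
              ← (hMc (m * z) (mul_mem hm hzM) i).eq, mul_assoc, ← pow_two, hsq i hi4]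
            exact mul_mem (mul_mem hm hzM) hzM
          rw [show 4 = 2 * 2 by norm_num, pow_mul, he _ h2]
        obtain ⟨k', hk', he'⟩ := (Nat.dvd_prime_pow Nat.prime_two).1
          (orderOf_dvd_of_pow_eq_one hgi4 : orderOf (g * i) ∣ 2 ^ 2)
        have hgi : g * i ∈ T := by
          rcases Nat.lt_or_ge k' 2 with hk2 | hk2
          · have : g * i ∈ M := hu.2 _ (orderOf_dvd_iff_pow_eq_one.1 (he' ▸ by
              calc 2 ^ k' ∣ 2 ^ 1 := pow_dvd_pow 2 (by omega)
                _ = 2 := pow_one 2))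
            rcases hM2 _ this with e1 | e1 <;> rw [e1]
            · exact T.one_mem
            · exact hx ▸ pow_mem (h4 x hx4) 2
          · exact h4 _ (by rw [he', show k' = 2 by omega]; norm_num)
        exact hgT (by simpa using mul_mem hgi (inv_mem (h4 i hi4)))
  let S : Sylow 2 G := default
  have hST : (S : Subgroup G) ≤ T := fun s hs => by
    obtain ⟨k, hk⟩ := S.2 ⟨s, hs⟩
    exact hall k s (by simpa using congrArg Subtype.val hk)
  have hc := (Subgroup.card_le_of_le hST).trans hT8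
  rw [S.card_eq_multiplicity, show (8 : ℕ) = 2 ^ 3 by norm_num] at hc
  exact (Nat.pow_le_pow_iff_right one_lt_two).1 hc

/-- A non-abelian subgroup with small commutators is a Sylow subgroup. -/
theorem IsB.card_of_nonabelian [Finite G] (hB : IsB G) (hs : Group.IsSolvable G) {p : ℕ} [Fact p.Prime]
    {M : Subgroup G} [M.Normal] (hu : IsUniq p M) {P : Subgroup G} (hP : IsPGroup p P)
    (hPM : ∀ a ∈ P, ∀ b ∈ P, a * b * a⁻¹ * b⁻¹ ∈ M) (hna : ¬ IsMulCommutative P) :
    Nat.card P = p ^ (Nat.card G).factorization p := by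
  by_cases hp2 : p = 2
  · subst hp2
    obtain ⟨x, y, z, hq⟩ := hu.exists_quatPair hP hPM hna
    have h3 := quat_bound _ G rfl hB hs x y z hq
    obtain ⟨k, hk⟩ := IsPGroup.iff_card.1 hP
    have hk3 : 3 ≤ k := by
      by_contra hk3
      rcases k with _ | _ | _ | k
      · exact hna (Subgroup.card_eq_one.1 (by simpa using hk) ▸ inferInstance)
      · haveI := isCyclic_of_prime_card (p := 2) (by simpa using hk)
        exact hna inferInstance
      · exact hna ⟨⟨fun a b => IsPGroup.commutative_of_card_eq_prime_sq (p := 2) (by simpa using hk) a b⟩⟩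
      · omega
    have hle : k ≤ (Nat.card G).factorization 2 := by
      rw [← (Fact.out : Nat.Prime 2).pow_dvd_iff_le_factorization Nat.card_pos.ne', ← hk]
      exact Subgroup.card_subgroup_dvd_card P
    rw [hk, show k = (Nat.card G).factorization 2 by omega]
  · exact absurd (hu.comm_of_odd hp2 hP hPM) hna

/-- Quotients of solvable groups with conjugate abelian subgroups have the same property. -/
theorem IsB.quotient : ∀ (n : ℕ) (G : Type u) [Group G] [Finite G], Nat.card G = n → IsB G → Group.IsSolvable G →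
    ∀ (M : Subgroup G) [M.Normal], IsB (G ⧸ M) := by
  intro n
  induction n using Nat.strong_induction_on with
  | _ n ih =>
  intro G _ _ hn hB hs M hMn
  haveI := hs
  by_cases hM1 : M = ⊥
  · subst hM1
    exact hB.of_equiv (QuotientGroup.quotientBot).symm
  obtain ⟨M₀, p, hp, hM0n, hM01, hle, hM0ab, he, hM0p, -⟩ := exists_minimal_normal_abelian hMn hM1
  haveI := hM0n
  haveI := hM0ab
  haveI : Fact p.Prime := ⟨hp⟩
  have h0 : IsB (G ⧸ M₀) := hB.quotient_minimal hM01 he hM0p fun hu _ hP hPM hna =>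
    hB.card_of_nonabelian hs hu hP hPM hna
  have hlt : Nat.card (G ⧸ M₀) < n := by
    have h1 : 1 < Nat.card M₀ :=
      Nat.lt_of_le_of_ne Nat.card_pos (Ne.symm fun h => hM01 (Subgroup.card_eq_one.1 h))
    rw [← hn, Subgroup.card_eq_card_quotient_mul_card_subgroup M₀]
    exact (lt_mul_iff_one_lt_right Nat.card_pos).2 h1
  exact (ih _ hlt (G ⧸ M₀) rfl h0 inferInstance (M.map (QuotientGroup.mk' M₀))).of_equiv
    (QuotientGroup.quotientQuotientEquivQuotient M₀ M hle)

end Cfsg.Agent.BGroup
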