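import Cfsg.Agent.Lib.BGroup.Basic

/-! The quotient of a group with conjugate abelian subgroups by a minimal normal subgroup. -/

set_option autoImplicit false
open scoped Pointwise

namespace Cfsg.Agent.BGroup

open SolvBasic

variable {G : Type*} [Group G] [Finite G] {p : ℕ} [hp : Fact p.Prime] {M : Subgroup G} [M.Normal]

/-- A decomposition of the preimage of an abelian subgroup of the quotient. -/
theorem decompose (hMp : IsPGroup p M) {H : Subgroup G} (hMH : M ≤ H)
    (hH : ∀ a ∈ H, ∀ b ∈ H, a * b * a⁻¹ * b⁻¹ ∈ M) :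
    ∃ P L : Subgroup G, IsPGroup p P ∧ M ≤ P ∧ P ≤ H ∧ L ≤ H ∧ P ⊔ L = H ∧
      (Nat.card L).Coprime p ∧ IsMulCommutative L ∧ Nat.card P = p ^ (Nat.card H).factorization p ∧
      Nat.card P * Nat.card L = Nat.card H := by
  let Q : Sylow p H := default
  obtain ⟨Q, hQ⟩ := (hMp.comap_subtype (K := H)).exists_le_sylow
  have hQn : (Q : Subgroup H).Normal := ⟨fun x hx h => by
    have hm : h * x * h⁻¹ * x⁻¹ ∈ (Q : Subgroup H) :=
      hQ (Subgroup.mem_subgroupOf.2 (hH h h.2 x x.2))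
    have := mul_mem hm hx
    rwa [inv_mul_cancel_right] at this⟩
  obtain ⟨L, hL⟩ := Subgroup.exists_right_complement'_of_coprime Q.card_coprime_index
  have hLcop : (Nat.card L).Coprime p := by
    rw [← hL.symm.index_eq_card]
    exact (hp.out.coprime_iff_not_dvd.2 Q.not_dvd_index).symm
  refine ⟨(Q : Subgroup H).map H.subtype, L.map H.subtype, Q.2.map _, fun m hm =>
    ⟨⟨m, hMH hm⟩, hQ (Subgroup.mem_subgroupOf.2 hm), rfl⟩, Subgroup.map_subtype_le _,
    Subgroup.map_subtype_le _, ?_, ?_, ?_, ?_, ?_⟩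
  · rw [← Subgroup.map_sup, hL.sup_eq_top, ← MonoidHom.range_eq_map, Subgroup.range_subtype]
  · rwa [Subgroup.card_map_of_injective H.subtype_injective]
  · refine .of_setLike_mul_comm ?_
    rintro _ ⟨a, ha, rfl⟩ _ ⟨b, hb, rfl⟩
    have h1 : a * b * a⁻¹ * b⁻¹ ∈ L :=
      mul_mem (mul_mem (mul_mem ha hb) (inv_mem ha)) (inv_mem hb)
    have h2 : a * b * a⁻¹ * b⁻¹ ∈ (Q : Subgroup H) := hQ (Subgroup.mem_subgroupOf.2 (hH a a.2 b b.2))
    have h3 := Subgroup.mem_bot.1 (hL.disjoint.le_bot ⟨h2, h1⟩)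
    exact congrArg Subtype.val (mul_inv_eq_iff_eq_mul.1 (mul_inv_eq_one.1 h3))
  · rw [Subgroup.card_map_of_injective H.subtype_injective]
    exact Q.card_eq_multiplicity
  · rw [Subgroup.card_map_of_injective H.subtype_injective, Subgroup.card_map_of_injective H.subtype_injective]
    exact hL.card_mul

theorem IsB.quotient_minimal (hB : IsB G) (hM1 : M ≠ ⊥) [IsMulCommutative M] (he : ∀ x ∈ M, x ^ p = 1)
    (hMp : IsPGroup p M)
    (hNA : IsUniq p M → ∀ P : Subgroup G, IsPGroup p P → (∀ a ∈ P, ∀ b ∈ P, a * b * a⁻¹ * b⁻¹ ∈ M) →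
      ¬ IsMulCommutative P → Nat.card P = p ^ (Nat.card G).factorization p) :
    IsB (G ⧸ M) := by
  intro A B hA hB' hcard
  set f := QuotientGroup.mk' M with hf
  have hsurj : Function.Surjective f := QuotientGroup.mk'_surjective M
  have hMle : ∀ A : Subgroup (G ⧸ M), M ≤ A.comap f := fun A m hm => by
    rw [Subgroup.mem_comap, show f m = 1 from (QuotientGroup.eq_one_iff m).2 hm]; exact A.one_mem
  have hcomm : ∀ A : Subgroup (G ⧸ M), IsMulCommutative ↥A →
      ∀ a ∈ A.comap f, ∀ b ∈ A.comap f, a * b * a⁻¹ * b⁻¹ ∈ M := fun A hA a ha b hb => by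
    haveI := hA
    rw [← QuotientGroup.eq_one_iff]
    show f (a * b * a⁻¹ * b⁻¹) = 1
    rw [map_mul, map_mul, map_mul, map_inv, map_inv, setLike_mul_comm (show f a ∈ A from ha) (show f b ∈ A from hb)]
    group
  have hcardc : ∀ A : Subgroup (G ⧸ M), Nat.card (A.comap f) = Nat.card M * Nat.card A := fun A => by
    refine Nat.eq_of_mul_eq_mul_right (m := A.index) (Nat.pos_of_ne_zero Subgroup.index_ne_zero_of_finite) ?_
    rw [mul_assoc, Subgroup.card_mul_index, ← Subgroup.index_comap_of_surjective A hsurj, Subgroup.card_mul_index,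
      ← Subgroup.index_eq_card, Subgroup.card_mul_index]
  -- decompose the two preimages
  obtain ⟨P, L, hPp, hMP, hPH, hLH, hPL, hLc, hLab, hPc, hPLc⟩ := decompose hMp (hMle A) (hcomm A hA)
  obtain ⟨P', L', hPp', hMP', hPH', hLH', hPL', hLc', hLab', hPc', hPLc'⟩ :=
    decompose hMp (hMle B) (hcomm B hB')
  have hH : Nat.card (A.comap f) = Nat.card (B.comap f) := by rw [hcardc, hcardc, hcard]
  have hPP : Nat.card P = Nat.card P' := by rw [hPc, hPc', hH]
  have hLL : Nat.card L = Nat.card L' :=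
    Nat.eq_of_mul_eq_mul_left Nat.card_pos (by rw [hPLc, hH, ← hPLc', hPP])
  obtain ⟨g, hg⟩ := hB L L' hLab hLab' hLL
  suffices h : ∃ c : G, MulAut.conj c • (A.comap f) = B.comap f by
    obtain ⟨c, hc⟩ := h
    refine ⟨f c, ?_⟩
    rw [← Subgroup.map_comap_eq_self_of_surjective hsurj A, ← Subgroup.map_comap_eq_self_of_surjective hsurj B,
      ← hc, map_conjSmul]
  -- after conjugation the complements agree
  have hPg : IsPGroup p (MulAut.conj g • P : Subgroup G) := hPp.map _
  have hMPg : M ≤ MulAut.conj g • P := fun m hm => by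
    rw [mem_conjSmul]
    exact hMP (by simpa using ‹M.Normal›.conj_mem m hm g⁻¹)
  have hHg : MulAut.conj g • (A.comap f) = (MulAut.conj g • P) ⊔ L' := by
    rw [← hPL, Subgroup.smul_sup, hg]
  have hcommg : ∀ a ∈ MulAut.conj g • (A.comap f), ∀ b ∈ MulAut.conj g • (A.comap f),
      a * b * a⁻¹ * b⁻¹ ∈ M := fun a ha b hb => by
    rw [mem_conjSmul] at ha hb
    have := ‹M.Normal›.conj_mem _ (hcomm A hA _ ha _ hb) g
    group at this ⊢; exact this
  set R := MulAut.conj g • P with hR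
  have hRc : Nat.card R = Nat.card P' := by rw [hR, card_conjSmul, hPP]
  suffices h : ∃ c : G, MulAut.conj c • (R ⊔ L') = P' ⊔ L' by
    obtain ⟨c, hc⟩ := h
    exact ⟨c * g, by rw [← conjSmul_conjSmul, hHg, hc, hPL']⟩
  by_cases hall : ∀ (y : G) (j : ℕ), orderOf y = p ^ j → y ∈ M
  · have key : ∀ S : Subgroup G, IsPGroup p S → M ≤ S → S = M := fun S hS hMS =>
      le_antisymm (fun y hy => by
        obtain ⟨j, hj⟩ := IsPGroup.iff_orderOf.1 hS ⟨y, hy⟩
        rw [Subgroup.orderOf_mk] at hj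
        exact hall y j hj) hMS
    exact ⟨1, by rw [key R hPg hMPg, key P' hPp' hMP', conjSmul_one]⟩
  have hu : IsUniq p M := ⟨by
    by_contra hne
    exact hall fun y j hy => hB.mem_of_card_ne hM1 he hMp hne hy, fun y hy => hB.mem_of_pow_eq_one hM1 he hy⟩
  have hcent : ∀ (H S : Subgroup G), IsPGroup p S → S ≤ H → L' ≤ H →
      (∀ a ∈ H, ∀ b ∈ H, a * b * a⁻¹ * b⁻¹ ∈ M) → Nat.card M < Nat.card S →
      S ≤ Subgroup.centralizer (L' : Set G) := by
    intro H S hS hSH hLH hHM hlt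
    obtain ⟨w, hwS, hwM⟩ : ∃ w ∈ S, w ∉ M := by
      by_contra h
      push Not at h
      exact absurd (Subgroup.card_le_of_le (show S ≤ M from h)) (not_le.2 hlt)
    have hcw : ∀ s ∈ S, s ∉ M → ∀ l ∈ L', Commute l s := fun s hs hsM l hl => by
      obtain ⟨j, hj⟩ := IsPGroup.iff_orderOf.1 hS ⟨s, hs⟩
      rw [Subgroup.orderOf_mk] at hj
      exact hu.commute_of_mod hj hsM (hLc'.coprime_dvd_left (Subgroup.orderOf_dvd_natCard _ hl))
        (hHM l (hLH hl) s (hSH hs))
    intro s hs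
    rw [Subgroup.mem_centralizer_iff]
    intro l hl
    by_cases hsM : s ∈ M
    · have h1 := hcw (s * w) (mul_mem hs hwS) (fun h => hwM (by simpa using mul_mem (inv_mem hsM) h)) l hl
      have h2 := h1.mul_right (hcw w hwS hwM l hl).inv_right
      rw [mul_inv_cancel_right] at h2
      exact h2.eq
    · exact (hcw s hs hsM l hl).eq
  have hRH : R ≤ MulAut.conj g • (A.comap f) := hHg ▸ le_sup_left
  have hLg : L' ≤ MulAut.conj g • (A.comap f) := hHg ▸ le_sup_right
  rcases (Subgroup.card_le_of_le hMP').eq_or_lt with heq | hlt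
  · have e1 := Subgroup.eq_of_le_of_card_ge hMP' heq.ge
    have e2 := Subgroup.eq_of_le_of_card_ge hMPg (hRc ▸ heq.ge)
    exact ⟨1, by rw [← e2, ← e1, conjSmul_one]⟩
  have hc1 := hcent _ R hPg hRH hLg hcommg (hRc ▸ hlt)
  have hc2 := hcent _ P' hPp' hPH' hLH' (hcomm B hB') hlt
  have hcardS : ∀ S : Subgroup G, IsPGroup p S → S ≤ Subgroup.centralizer (L' : Set G) →
      Nat.card (S ⊔ L' : Subgroup G) = Nat.card S * Nat.card L' := fun S hS hSC => by
    rw [sup_comm, card_sup_of_inf_eq_bot (hSC.trans (Subgroup.centralizer_le_normalizer _)), mul_comm]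
    obtain ⟨k, hk⟩ := IsPGroup.iff_card.1 hS
    exact (Subgroup.disjoint_of_coprime_natCard (hk ▸ hLc'.pow_right k)).eq_bot
  have habel : ∀ S : Subgroup G, S ≤ Subgroup.centralizer (L' : Set G) → IsMulCommutative S →
      IsMulCommutative (S ⊔ L' : Subgroup G) := fun S hSC hS => by
    haveI := hS
    haveI := hLab'
    rw [← Subgroup.closure_eq S, ← Subgroup.closure_eq L', ← Subgroup.closure_union]
    refine Subgroup.isMulCommutative_closure ?_
    rintro a (ha | ha) b (hb | hb)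
    · exact setLike_mul_comm ha hb
    · exact (Subgroup.mem_centralizer_iff.1 (hSC ha) b hb).symm
    · exact Subgroup.mem_centralizer_iff.1 (hSC hb) a ha
    · exact setLike_mul_comm ha hb
  by_cases hab : IsMulCommutative R ∧ IsMulCommutative P'
  · obtain ⟨c, hc⟩ := hB (R ⊔ L') (P' ⊔ L') (habel R hc1 hab.1) (habel P' hc2 hab.2)
      (by rw [hcardS R hPg hc1, hcardS P' hPp' hc2, hRc])
    exact ⟨c, hc.symm⟩
  have hfull : Nat.card P' = p ^ (Nat.card G).factorization p := by
    rcases not_and_or.1 hab with h | h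
    · rw [← hRc]
      exact hNA hu R hPg (fun a ha b hb => hcommg a (hRH ha) b (hRH hb)) h
    · exact hNA hu P' hPp' (fun a ha b hb => hcomm B hB' a (hPH' ha) b (hPH' hb)) h
  set C := Subgroup.centralizer (L' : Set G) with hC
  have hbig : ∀ S : Subgroup G, S ≤ C → Nat.card S = p ^ (Nat.card G).factorization p →
      Nat.card (S.subgroupOf C) = p ^ (Nat.card C).factorization p := fun S hSC hS => by
    rw [Nat.card_congr (Subgroup.subgroupOfEquivOfLe hSC).toEquiv, hS]
    congr 1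
    refine le_antisymm ?_ ?_
    · rw [← hp.out.pow_dvd_iff_le_factorization Nat.card_pos.ne', ← hS]
      exact Subgroup.card_dvd_of_le hSC
    · exact (Nat.factorization_le_iff_dvd Nat.card_pos.ne' Nat.card_pos.ne').2
        (Subgroup.card_subgroup_dvd_card C) p
  obtain ⟨c, hc⟩ := MulAction.exists_smul_eq C
    (Sylow.ofCard (R.subgroupOf C) (hbig R hc1 (hRc.trans hfull)))
    (Sylow.ofCard (P'.subgroupOf C) (hbig P' hc2 hfull))
  have h1 := congrArg (fun S : Sylow p C => (S : Subgroup C).map C.subtype) hc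
  simp only [Sylow.coe_subgroup_smul, map_subtype_conjSmul, Sylow.coe_ofCard] at h1
  rw [Subgroup.map_subgroupOf_eq_of_le hc1, Subgroup.map_subgroupOf_eq_of_le hc2] at h1
  refine ⟨c, ?_⟩
  rw [Subgroup.smul_sup, h1, conjSmul_eq_self_of_mem_normalizer (Subgroup.centralizer_le_normalizer _ c.2)]

/-- For odd `p` no further hypothesis is needed. -/
theorem IsB.quotient_minimal_odd (hB : IsB G) (hp2 : p ≠ 2) (hM1 : M ≠ ⊥) [IsMulCommutative M]
    (he : ∀ x ∈ M, x ^ p = 1) (hMp : IsPGroup p M) : IsB (G ⧸ M) :=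
  hB.quotient_minimal hM1 he hMp fun hu _ hP hPM hna => absurd (hu.comm_of_odd hp2 hP hPM) hna

end Cfsg.Agent.BGroup
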