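import Cfsg.Agent.Lib.BGroup.Stab
import Cfsg.Agent.Lib.Solvable.Fitting

/-! Stabilisers of proper subgroups when the elementary abelian Sylow subgroup has rank at least three. -/

set_option autoImplicit false
set_option linter.style.haveILetI false
open scoped Pointwise

universe u

namespace Cfsg.Agent.BGroup

open SolvBasic

variable {G : Type u} [Group G] [Finite G] {p : ℕ} [hp : Fact p.Prime]

/-- A central Sylow subgroup splits off. -/
theorem centralizer_mod_core {M : Subgroup G} [M.Normal] (hMp : IsPGroup p M) (hidx : ¬ p ∣ M.index) {x : G}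
    (hab : ∀ a ∈ M, ∀ b ∈ M, a * b = b * a) (hx : x ∈ Subgroup.centralizer (M : Set G)) :
    ∃ a ∈ M, a⁻¹ * x ∈ Cfsg.pPrimeCore p G := by
  obtain ⟨n, hn⟩ := IsPGroup.iff_card.1 hMp
  set C := Subgroup.centralizer (M : Set G) with hC
  have hMC : M ≤ C := fun a ha => Subgroup.mem_centralizer_iff.2 fun b hb => hab b hb a ha
  set A := M.subgroupOf C with hA
  have hAc : Nat.card A = p ^ n := by rw [Nat.card_congr (Subgroup.subgroupOfEquivOfLe hMC).toEquiv, hn]
  have hAidx : ¬ p ∣ A.index := fun hd => hidx (hd.trans ⟨C.index, (Subgroup.relIndex_mul_index hMC).symm⟩)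
  obtain ⟨H, hH⟩ := Subgroup.exists_right_complement'_of_coprime (N := A)
    (by rw [hAc]; exact (hp.out.coprime_iff_not_dvd.2 hAidx).pow_left n)
  have hHc : (Nat.card H).Coprime p := by
    rw [← hH.symm.index_eq_card]; exact (hp.out.coprime_iff_not_dvd.2 hAidx).symm
  have hAcen : ∀ a ∈ A, ∀ c : C, a * c = c * a := fun a ha c =>
    Subtype.ext (Subgroup.mem_centralizer_iff.1 c.2 _ ha)
  have hchar : ∀ c : C, (orderOf c).Coprime p → c ∈ H := by
    intro c hc
    obtain ⟨⟨a, h⟩, rfl⟩ := hH.2 c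
    set m := orderOf ((a : C) * (h : C)) with hm
    have hcomm : Commute (a : C) (h : C) := hAcen a a.2 h
    have h1 : (a : C) ^ m = ((h : C) ^ m)⁻¹ := by
      rw [eq_inv_iff_mul_eq_one, ← hcomm.mul_pow, hm, pow_orderOf_eq_one]
    have h2 : (a : C) ^ m ∈ A ⊓ H := ⟨A.pow_mem a.2 m, h1 ▸ H.inv_mem (H.pow_mem h.2 m)⟩
    rw [hH.disjoint.eq_bot, Subgroup.mem_bot] at h2
    have h4 : orderOf (a : C) ∣ p ^ n := hAc ▸ A.orderOf_dvd_natCard a.2
    have h5 : orderOf (a : C) = 1 :=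
      Nat.eq_one_of_dvd_coprimes (hc.pow_right n) (orderOf_dvd_of_pow_eq_one h2) h4
    rw [orderOf_eq_one_iff] at h5
    show (a : C) * (h : C) ∈ H
    rw [h5, one_mul]; exact h.2
  haveI hCn : C.Normal := inferInstance
  have hHn : (H.map C.subtype).Normal := ⟨fun y hy g => by
    obtain ⟨h, hh, rfl⟩ := hy
    refine ⟨⟨g * (h : G) * g⁻¹, hCn.conj_mem _ h.2 g⟩, hchar _ ?_, rfl⟩
    rw [← Subgroup.orderOf_coe]
    show (orderOf (g * (h : G) * g⁻¹)).Coprime p
    rw [show g * (h : G) * g⁻¹ = MulAut.conj g (h : G) from rfl, MulEquiv.orderOf_eq, Subgroup.orderOf_coe]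
    exact hHc.coprime_dvd_left (H.orderOf_dvd_natCard hh)⟩
  have hHK : H.map C.subtype ≤ Cfsg.pPrimeCore p G := FittingCores.le_pPrimeCore hHn
    (by rwa [Subgroup.card_map_of_injective C.subtype_injective])
  obtain ⟨⟨a, h⟩, hah⟩ := hH.2 ⟨x, hx⟩
  refine ⟨((a : C) : G), a.2, ?_⟩
  rw [← show ((a : C) : G) * ((h : C) : G) = x from congrArg Subtype.val hah, inv_mul_cancel_left]
  exact hHK ⟨h, h.2, rfl⟩

/-- Stabilisers of proper nontrivial subgroups in higher rank. -/
theorem IsB.hasChar_big [Group.IsSolvable G] (hB : IsB G) {M W : Subgroup G} [M.Normal] [IsMulCommutative M]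
    (he : ∀ x ∈ M, x ^ p = 1) (hMp : IsPGroup p M) (hidx : ¬ p ∣ M.index) {n : ℕ} (hn : 3 ≤ n)
    (hM : Nat.card M = p ^ n) (hWM : W ≤ M) (hW1 : W ≠ ⊥) (hW2 : W ≠ M) : HasChar M W := by
  classical
  set O := Cfsg.pPrimeCore p G with hO
  haveI hOn : O.Normal := FittingCores.pPrimeCore_normal p
  set π := QuotientGroup.mk' O with hπ
  have hdis : ∀ x ∈ M, x ∈ O → x = 1 := fun x hxM hxO => by
    rw [← orderOf_eq_one_iff]
    exact Nat.eq_one_of_dvd_coprimes ((FittingCores.pPrimeCore_coprime (G := G) p).pow_right n)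
      (Subgroup.orderOf_dvd_natCard _ hxO) (hM ▸ Subgroup.orderOf_dvd_natCard _ hxM)
  have hinj : ∀ a ∈ M, ∀ b ∈ M, π a = π b → a = b := fun a ha b hb h =>
    inv_mul_eq_one.1 (hdis _ (mul_mem (inv_mem ha) hb) (QuotientGroup.eq.1 h))
  set Pb := M.map π with hPb
  haveI : Pb.Normal := Subgroup.Normal.map inferInstance π (QuotientGroup.mk'_surjective O)
  have hcardmap : ∀ A : Subgroup G, A ≤ M → Nat.card (A.map π) = Nat.card A := fun A hA =>
    card_map_mk'_of_inf_eq_bot ((Subgroup.eq_bot_iff_forall _).2 fun x hx => hdis x (hA hx.1) hx.2)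
  have hPbab : ∀ a ∈ Pb, ∀ b ∈ Pb, a * b = b * a := by
    rintro _ ⟨a, ha, rfl⟩ _ ⟨b, hb, rfl⟩
    rw [← map_mul, setLike_mul_comm ha hb, map_mul]
  have hPbexp : ∀ a ∈ Pb, a ^ p = 1 := by
    rintro _ ⟨a, ha, rfl⟩
    rw [← map_pow, he a ha, map_one]
  have hPbc : Nat.card Pb = p ^ n := by rw [hPb, hcardmap M le_rfl, hM]
  have hcop : (Nat.card Pb).Coprime Pb.index := by
    rw [hPbc]
    refine (hp.out.coprime_iff_not_dvd.2 fun hd => hidx (hd.trans ?_)).pow_left n
    exact Subgroup.index_map_dvd _ (QuotientGroup.mk'_surjective O)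
  have hself : Subgroup.centralizer (Pb : Set (G ⧸ O)) ≤ Pb := by
    intro y hy
    obtain ⟨x, rfl⟩ := QuotientGroup.mk'_surjective O y
    have hxC : x ∈ Subgroup.centralizer (M : Set G) := Subgroup.mem_centralizer_iff.2 fun a ha => by
      have h1 := Subgroup.mem_centralizer_iff.1 hy (π a) ⟨a, ha, rfl⟩
      have h4 : π (x * a * x⁻¹) = π a := by
        rw [map_mul, map_mul, map_inv, ← h1, mul_inv_cancel_right]
      exact (mul_inv_eq_iff_eq_mul.1 (hinj _ (‹M.Normal›.conj_mem a ha x) a ha h4)).symm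
    obtain ⟨a, ha, hax⟩ := centralizer_mod_core hMp hidx (fun a ha b hb => setLike_mul_comm ha hb) hxC
    exact ⟨a, ha, QuotientGroup.eq.2 hax⟩
  have htr : ∀ A B : Subgroup (G ⧸ O), A ≤ Pb → B ≤ Pb → Nat.card A = Nat.card B →
      ∃ x : G ⧸ O, A.map (MulAut.conj x).toMonoidHom = B := by
    intro A B hA hB' hAB
    have hmap : ∀ A : Subgroup (G ⧸ O), A ≤ Pb → (M ⊓ A.comap π).map π = A := fun A hA => by
      refine le_antisymm (by rintro _ ⟨a, ha, rfl⟩; exact ha.2) fun y hy => ?_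
      obtain ⟨a, ha, rfl⟩ := hA hy
      exact ⟨a, ⟨ha, hy⟩, rfl⟩
    have hab : ∀ A : Subgroup G, A ≤ M → IsMulCommutative A := fun A hA =>
      .of_setLike_mul_comm fun a ha b hb => setLike_mul_comm (hA ha) (hA hb)
    obtain ⟨g, hg⟩ := hB (M ⊓ A.comap π) (M ⊓ B.comap π) (hab _ inf_le_left) (hab _ inf_le_left)
      (by rw [← hcardmap _ inf_le_left, ← hcardmap (M ⊓ B.comap π) inf_le_left, hmap A hA, hmap B hB', hAB])
    refine ⟨π g, ?_⟩
    conv_rhs => rw [← hmap B hB', hg, map_conjSmul, hmap A hA]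
    rfl
  obtain ⟨k, hkp, hkn, f, hf⟩ : ∃ k : ℕ, k.Prime ∧ k = n ∧
      ∃ f : G ⧸ O →* Cfsg.semiaffineGroup (GaloisField p k), Function.Injective f := by
    rcases SubspaceTrans.affine_model hn Pb hPbab hPbexp hPbc hcop hself htr with ⟨rfl, h, -⟩ | ⟨rfl, rfl, ⟨e⟩⟩
    · exact ⟨3, Nat.prime_three, rfl, h⟩
    · exact ⟨5, Nat.prime_five, rfl, e.toMonoidHom, e.injective⟩
  set F := GaloisField p k with hF
  set g : G →* Cfsg.semiaffineGroup F := f.comp π with hg
  choose a b φ hφ using fun x : G => (g x).2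
  have hmul : ∀ x y : G, a (x * y) = a x * Units.map (φ x : F →* F) (a y) ∧
      b (x * y) = (a x : F) * φ x (b y) + b x ∧ φ (x * y) = (φ y).trans (φ x) := by
    intro x y
    refine SubspaceTrans.semiaffine_unique fun z => ?_
    rw [← hφ, map_mul]
    show (g x : Equiv.Perm F) ((g y : Equiv.Perm F) z) = _
    simp only [hφ, map_add, map_mul, mul_add, add_assoc, mul_assoc, Units.val_mul, Units.coe_map,
      MonoidHom.coe_coe, RingEquiv.coe_trans, Function.comp_apply]
  have hone : a 1 = 1 ∧ b 1 = 0 ∧ φ 1 = RingEquiv.refl F := by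
    refine SubspaceTrans.semiaffine_unique fun z => ?_
    rw [← hφ, map_one]
    simp
  let lam : G →* (F ≃+* F) :=
    { toFun := φ
      map_one' := hone.2.2
      map_mul' := fun x y => RingEquiv.ext fun z => by rw [(hmul x y).2.2]; rfl }
  have hQ : Nat.card (F ≃+* F) = k := SubspaceTrans.card_ringAut p k hkp.ne_zero
  haveI : Fact k.Prime := ⟨hkp⟩
  haveI hcyc : IsCyclic (F ≃+* F) := isCyclic_of_prime_card hQ
  have hcommQ : ∀ x y : F ≃+* F, x * y = y * x := fun x y => by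
    obtain ⟨e, he'⟩ := IsCyclic.exists_generator (α := F ≃+* F)
    obtain ⟨i, rfl⟩ := Subgroup.mem_zpowers_iff.1 (he' x)
    obtain ⟨j, rfl⟩ := Subgroup.mem_zpowers_iff.1 (he' y)
    rw [← _root_.zpow_add, ← _root_.zpow_add, add_comm]
  -- translations
  have hlamM : ∀ m ∈ M, lam m = 1 := by
    set M₀ := M ⊓ lam.ker with hM₀
    haveI : M₀.Normal := inferInstance
    obtain ⟨w, hw, hw1⟩ : ∃ w ∈ M₀, w ≠ 1 := by
      by_contra hall
      push Not at hall
      have hcen : ∀ m ∈ M, ∀ x : G, x * m * x⁻¹ * m⁻¹ = 1 := fun m hm x => hall _ (Subgroup.mem_inf.2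
        ⟨mul_mem (‹M.Normal›.conj_mem m hm x) (inv_mem hm), by
          rw [MonoidHom.mem_ker, map_mul, map_mul, map_mul, map_inv, map_inv, hcommQ (lam x) (lam m)]
          group⟩)
      obtain ⟨gg, hgg⟩ := Set.not_subset.1 (fun hle : (M : Set G) ⊆ (W : Set G) => hW2 (le_antisymm hWM hle))
      obtain ⟨v, hv, hv1⟩ := (Subgroup.bot_or_exists_ne_one W).resolve_left hW1
      have hg1 : gg ≠ 1 := fun e => hgg.2 (e ▸ W.one_mem)
      obtain ⟨c, hc⟩ := hB (Subgroup.zpowers v) (Subgroup.zpowers gg) inferInstance inferInstance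
        (by rw [Nat.card_zpowers, Nat.card_zpowers, orderOf_eq_prime (he v (hWM hv)) hv1,
          orderOf_eq_prime (he gg hgg.1) hg1])
      have hgm : gg ∈ MulAut.conj c • Subgroup.zpowers v := hc ▸ Subgroup.mem_zpowers gg
      rw [mem_conjSmul] at hgm
      have := hcen gg hgg.1 c⁻¹
      rw [inv_inv] at this
      rw [mul_inv_eq_one.1 this] at hgm
      exact hgg.2 (Subgroup.zpowers_le.2 hv hgm)
    intro m hm
    by_cases hm1 : m = 1
    · rw [hm1, map_one]
    exact (hB.mem_of_orderOf_eq (N := M₀) hw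
      (by rw [orderOf_eq_prime (he m hm) hm1, orderOf_eq_prime (he w hw.1) hw1])).2
  have hφ1 : ∀ m ∈ M, φ m = RingEquiv.refl F := fun m hm => hlamM m hm
  have ha1 : ∀ m ∈ M, a m = 1 := by
    intro m hm
    have hpw : ∀ j : ℕ, a (m ^ j) = a m ^ j := by
      intro j
      induction j with
      | zero => rw [pow_zero, pow_zero, hone.1]
      | succ j ih =>
        rw [pow_succ, pow_succ, (hmul _ m).1, ih, hφ1 _ (M.pow_mem hm j)]
        congr 1
    have h := hpw p
    rw [he m hm, hone.1] at h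
    haveI : ExpChar F p := ExpChar.prime hp.out
    refine Units.ext (frobenius_inj F p ?_)
    rw [frobenius_def, frobenius_def, ← Units.val_pow_eq_pow_val, ← h, Units.val_one, one_pow]
  have hbmul : ∀ x ∈ M, ∀ y, b (x * y) = b y + b x := fun x hx y => by
    rw [(hmul x y).2.1, ha1 x hx, hφ1 x hx, Units.val_one, one_mul]; rfl
  have hbinj : ∀ x ∈ M, ∀ y ∈ M, b x = b y → x = y := fun x hx y hy hxy => by
    refine hinj x hx y hy (hf (Subtype.ext (Equiv.ext fun z => ?_)))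
    show (g x : Equiv.Perm F) z = (g y : Equiv.Perm F) z
    rw [hφ, hφ, ha1 x hx, ha1 y hy, hφ1 x hx, hφ1 y hy, hxy]
  have hconj : ∀ s : G, φ s = RingEquiv.refl F → ∀ m ∈ M, b (s * m * s⁻¹) = (a s : F) * b m := by
    intro s hs m hm
    have h1 : b ((s * m * s⁻¹) * s) = b (s * m) := by group
    rw [hbmul _ (‹M.Normal›.conj_mem m hm s), (hmul s m).2.1, hs, add_comm (b s)] at h1
    exact add_right_cancel h1
  -- multipliers of the image of `W`
  set Ŵ : Set F := b '' (W : Set G) with hŴ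
  have hb1 : b 1 = 0 := hone.2.1
  have hadd : ∀ y ∈ Ŵ, ∀ z ∈ Ŵ, y + z ∈ Ŵ := by
    rintro _ ⟨y, hy, rfl⟩ _ ⟨z, hz, rfl⟩
    exact ⟨z * y, mul_mem hz hy, hbmul z (hWM hz) y⟩
  have hzero : (0 : F) ∈ Ŵ := ⟨1, W.one_mem, hb1⟩
  have hnat : ∀ (j : ℕ), ∀ y ∈ Ŵ, (j : F) * y ∈ Ŵ := by
    intro j y hy
    induction j with
    | zero => simpa using hzero
    | succ j ih => rw [Nat.cast_succ, add_mul, one_mul]; exact hadd _ ih _ hy
  let R : Subalgebra (ZMod p) F :=
    { carrier := {c | ∀ y ∈ Ŵ, c * y ∈ Ŵ}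
      mul_mem' := fun {c d} hc hd y hy => by rw [mul_assoc]; exact hc _ (hd y hy)
      one_mem' := fun y hy => by rwa [one_mul]
      add_mem' := fun {c d} hc hd y hy => by rw [add_mul]; exact hadd _ (hc y hy) _ (hd y hy)
      zero_mem' := fun y _ => by rw [zero_mul]; exact hzero
      algebraMap_mem' := fun r y hy => by
        rw [← ZMod.natCast_zmod_val r, map_natCast]; exact hnat _ y hy }
  haveI : IsSimpleOrder (Subalgebra (ZMod p) F) :=
    Subalgebra.isSimpleOrder_of_finrank_prime _ _ (by rw [GaloisField.finrank p hkp.ne_zero]; exact hkp)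
  have hRbot : R = ⊥ := by
    refine (eq_bot_or_eq_top R).resolve_right fun htop => ?_
    obtain ⟨v, hv, hv1⟩ := (Subgroup.bot_or_exists_ne_one W).resolve_left hW1
    have hbv : b v ≠ 0 := fun h => hv1 (hbinj v (hWM hv) 1 M.one_mem (h.trans hb1.symm))
    have hall : ∀ y : F, y ∈ Ŵ := fun y => by
      have := (htop ▸ Algebra.mem_top : y * (b v)⁻¹ ∈ R) (b v) ⟨v, hv, rfl⟩
      rwa [inv_mul_cancel_right₀ hbv] at this
    refine hW2 (le_antisymm hWM fun m hm => ?_)
    obtain ⟨w, hw, hwm⟩ := hall (b m)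
    rw [← hbinj w (hWM hw) m hm hwm]; exact hw
  refine ⟨F ≃+* F, inferInstance, hcyc, lam.comp (Subgroup.normalizer (W : Set G)).subtype, fun s hs => ?_,
    fun s hs => ?_⟩
  · have hsφ : φ (s : G) = RingEquiv.refl F := hs
    have hmem : (a (s : G) : F) ∈ R := by
      rintro _ ⟨w, hw, rfl⟩
      exact ⟨(s : G) * w * (s : G)⁻¹, (Subgroup.mem_normalizer_iff.1 s.2 w).1 hw, hconj _ hsφ w (hWM hw)⟩
    rw [hRbot, Algebra.mem_bot] at hmem
    obtain ⟨r, hr⟩ := hmem
    refine ⟨r.val, fun m hm => hbinj _ (‹M.Normal›.conj_mem m hm _) _ (M.pow_mem hm _) ?_⟩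
    rw [hconj _ hsφ m hm, ← hr, ← ZMod.natCast_zmod_val r, map_natCast, ZMod.val_natCast, Nat.mod_eq_of_lt (ZMod.val_lt r)]
    induction r.val with
    | zero => simpa using hb1.symm
    | succ j ih => rw [pow_succ, hbmul _ (M.pow_mem hm j), Nat.cast_succ, add_mul, one_mul, ih, add_comm]
  · have hmem : π (s : G) ∈ Pb := hself (Subgroup.mem_centralizer_iff.2 (by
      rintro _ ⟨m, hm, rfl⟩
      rw [← map_mul, ← map_mul]
      congr 1
      conv_lhs => rw [← hs m hm]
      group))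
    obtain ⟨m, hm, hms⟩ := hmem
    have hgs : g (s : G) = g m := by rw [hg, MonoidHom.comp_apply, MonoidHom.comp_apply, hms]
    have h := SubspaceTrans.semiaffine_unique (a := a (s : G)) (a' := a m) (b := b (s : G)) (b' := b m)
      (φ := φ (s : G)) (φ' := φ m) fun z => by rw [← hφ, ← hφ, hgs]
    show φ (s : G) = 1
    rw [h.2.2, hφ1 m hm]; rfl

end Cfsg.Agent.BGroup
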