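import Cfsg.Agent.Lib.BGroup.Quat
import Cfsg.Agent.Lib.BGroup.Cyclic
import Cfsg.Agent.Lib.Solvable.TransLinear.AffineModel
import Mathlib.FieldTheory.Finite.GaloisField

/-! Stabilisers of proper subgroups of an elementary abelian Sylow subgroup. -/

set_option autoImplicit false
open scoped Pointwise

universe u

namespace Cfsg.Agent.BGroup

open SolvBasic

variable {G : Type u} [Group G] [Finite G] {p : ℕ} [hp : Fact p.Prime]

/-- A character of the normaliser of `W` whose kernel induces power maps on `M`. -/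
def HasChar (M W : Subgroup G) : Prop :=
  ∃ (Q : Type) (_ : Group Q) (_ : IsCyclic Q) (χ : Subgroup.normalizer (W : Set G) →* Q),
    (∀ s, χ s = 1 → ∃ i : ℕ, ∀ m ∈ M, (s : G) * m * (s : G)⁻¹ = m ^ i) ∧
    ∀ s : Subgroup.normalizer (W : Set G), (∀ m ∈ M, (s : G) * m * (s : G)⁻¹ = m) → χ s = 1

/-- A character through the action on a generator modulo `N`. -/
theorem exists_lineChar (S : Subgroup G) {M N : Subgroup G} [M.Normal] [IsMulCommutative M] (hN : N ≤ M)
    (he : ∀ x ∈ M, x ^ p = 1) (hSN : ∀ s ∈ S, ∀ x ∈ N, s * x * s⁻¹ ∈ N) {w : G} (hw : w ∈ M) (hwN : w ∉ N)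
    (hgen : ∀ s ∈ S, ∃ k : ℕ, (w ^ k)⁻¹ * (s * w * s⁻¹) ∈ N) :
    ∃ χ : S →* (ZMod p)ˣ, ∀ s : S, (w ^ ((χ s : ZMod p).val))⁻¹ * ((s : G) * w * (s : G)⁻¹) ∈ N := by
  have hred : ∀ k : ℕ, w ^ ((k : ZMod p)).val = w ^ k := fun k => by
    rw [ZMod.val_natCast]; exact (pow_eq_pow_mod k (he w hw)).symm
  have huniq : ∀ i j : ℕ, (w ^ i)⁻¹ * w ^ j ∈ N → (i : ZMod p) = (j : ZMod p) := by
    intro i j h
    by_contra hne
    have hz : w ^ ((j : ℤ) - i) ∈ N := by
      rwa [_root_.zpow_sub, zpow_natCast, zpow_natCast, ← (Commute.pow_pow_self w i j).inv_left.eq]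
    have hco : IsCoprime ((j : ℤ) - i) (p : ℤ) := by
      refine (((Nat.prime_iff_prime_int.1 hp.out).coprime_iff_not_dvd).2 fun hd => hne ?_).symm
      have := (ZMod.intCast_zmod_eq_zero_iff_dvd _ _).2 hd
      push_cast at this
      exact (sub_eq_zero.1 this).symm
    obtain ⟨u, v, huv⟩ := hco
    refine hwN ?_
    rw [← zpow_one w, ← huv, _root_.zpow_add, mul_comm u, mul_comm v, zpow_mul, zpow_mul, zpow_natCast, he w hw,
      one_zpow, mul_one]
    exact zpow_mem hz u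
  choose f hf using fun s : S => hgen s s.2
  have hmul : ∀ s t : S, (f (s * t) : ZMod p) = f s * f t := by
    intro s t
    rw [← Nat.cast_mul]
    refine huniq _ _ ?_
    have h1 := hf (s * t)
    have hmem : ∀ {a : G}, a ∈ M → (s : G) * a * (s : G)⁻¹ ∈ M := fun ha => ‹M.Normal›.conj_mem _ ha s
    set n := (w ^ f t)⁻¹ * ((t : G) * w * (t : G)⁻¹) with hn
    set n' := (w ^ f s)⁻¹ * ((s : G) * w * (s : G)⁻¹) with hn'
    have h2 : n ∈ N := hf t
    have h3 : n' ∈ N := hf s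
    have e : ((s * t : S) : G) * w * ((s * t : S) : G)⁻¹ = w ^ (f s * f t) * (n' ^ f t * ((s : G) * n * (s : G)⁻¹)) := by
      have e1 : (t : G) * w * (t : G)⁻¹ = w ^ f t * n := by rw [hn]; group
      have e2 : (s : G) * w * (s : G)⁻¹ = w ^ f s * n' := by rw [hn']; group
      rw [pow_mul, ← mul_assoc,
        ← (show Commute (w ^ f s) n' from setLike_mul_comm (M.pow_mem hw _) (hN h3)).mul_pow, ← e2, conj_pow]
      calc ((s * t : S) : G) * w * ((s * t : S) : G)⁻¹ = (s : G) * ((t : G) * w * (t : G)⁻¹) * (s : G)⁻¹ := by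
            rw [Subgroup.coe_mul]; group
        _ = _ := by rw [e1]; group
    have h4 : n' ^ f t * ((s : G) * n * (s : G)⁻¹) ∈ N := mul_mem (pow_mem h3 _) (hSN s s.2 n h2)
    rw [e, ← mul_assoc] at h1
    have := mul_mem h1 (inv_mem h4)
    rwa [mul_inv_cancel_right] at this
  have hone : (f 1 : ZMod p) = 1 := by
    have h := huniq (f 1) 1 (by simpa using hf 1)
    simpa using h
  let φ : S →* ZMod p := { toFun := fun s => (f s : ZMod p), map_one' := hone, map_mul' := hmul }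
  refine ⟨φ.toHomUnits, fun s => ?_⟩
  rw [MonoidHom.coe_toHomUnits, show φ s = (f s : ZMod p) from rfl, hred]
  exact hf s

/-- Stabilisers of lines in a plane. -/
theorem hasChar_plane {M W : Subgroup G} [M.Normal] [IsMulCommutative M] (he : ∀ x ∈ M, x ^ p = 1)
    (hM : Nat.card M = p ^ 2) (hidx : ¬ p ∣ M.index) (hWM : W ≤ M) (hW : Nat.card W = p) : HasChar M W := by
  set S := Subgroup.normalizer (W : Set G) with hS
  have hWne : W ≠ ⊥ := fun h => by rw [h, Subgroup.card_bot] at hW; exact hp.out.one_lt.ne hW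
  obtain ⟨w, hw, hw1⟩ := (Subgroup.bot_or_exists_ne_one W).resolve_left hWne
  obtain ⟨m, hm, hmW⟩ : ∃ m ∈ M, m ∉ W := by
    by_contra h
    push Not at h
    have := Subgroup.card_le_of_le (show M ≤ W from h)
    rw [hM, hW] at this
    nlinarith [hp.out.two_le]
  have hordw : orderOf w = p := orderOf_eq_prime (he w (hWM hw)) hw1
  have hWz : W = Subgroup.zpowers w := (Subgroup.eq_of_le_of_card_ge (Subgroup.zpowers_le.2 hw)
    (by rw [Nat.card_zpowers, hordw, hW])).symm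
  have hgenW : ∀ x ∈ W, ∃ k : ℕ, x = w ^ k := fun x hx => by
    rw [hWz, ← (isOfFinOrder_of_finite w).mem_powers_iff_mem_zpowers] at hx
    obtain ⟨k, hk⟩ := hx
    exact ⟨k, hk.symm⟩
  have hgenM : ∀ x ∈ M, ∃ k : ℕ, (m ^ k)⁻¹ * x ∈ W := by
    intro x hx
    haveI : (W.subgroupOf M).Normal := ⟨fun a ha g => by
      rw [mul_comm' g a, mul_inv_cancel_right]; exact ha⟩
    have hq : Nat.card (M ⧸ W.subgroupOf M) = p := by
      have := Subgroup.card_eq_card_quotient_mul_card_subgroup (W.subgroupOf M)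
      rw [Nat.card_congr (Subgroup.subgroupOfEquivOfLe hWM).toEquiv, hM, hW, pow_two] at this
      exact (Nat.eq_of_mul_eq_mul_right hp.out.pos this).symm
    have hne : QuotientGroup.mk' (W.subgroupOf M) ⟨m, hm⟩ ≠ 1 := fun h =>
      hmW (Subgroup.mem_subgroupOf.1 ((QuotientGroup.eq_one_iff _).1 h))
    have := mem_powers_of_prime_card hq hne (g' := QuotientGroup.mk' (W.subgroupOf M) ⟨x, hx⟩)
    obtain ⟨k, hk⟩ := this
    refine ⟨k, ?_⟩
    have h2 : (⟨m, hm⟩ ^ k)⁻¹ * (⟨x, hx⟩ : M) ∈ W.subgroupOf M := by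
      rw [← QuotientGroup.eq_one_iff]
      show QuotientGroup.mk' (W.subgroupOf M) _ = 1
      rw [map_mul, map_inv, map_pow, ← hk, inv_mul_cancel]
    exact Subgroup.mem_subgroupOf.1 h2
  have hSW : ∀ s ∈ S, ∀ x ∈ W, s * x * s⁻¹ ∈ W := fun s hs x hx => (Subgroup.mem_normalizer_iff.1 hs x).1 hx
  obtain ⟨χ₁, h₁⟩ := exists_lineChar (p := p) S (N := ⊥) bot_le he (fun s _ x hx => by
      rw [Subgroup.mem_bot] at hx ⊢; simp [hx]) (hWM hw) (fun h => hw1 (Subgroup.mem_bot.1 h)) (fun s hs => by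
    obtain ⟨k, hk⟩ := hgenW _ (hSW s hs w hw)
    exact ⟨k, by rw [hk, inv_mul_cancel]; exact one_mem _⟩)
  obtain ⟨χ₂, h₂⟩ := exists_lineChar (p := p) S hWM he hSW hm hmW (fun s _ => hgenM _ (‹M.Normal›.conj_mem m hm s))
  refine ⟨(ZMod p)ˣ, inferInstance, inferInstance, χ₁ / χ₂, fun s hs => ?_, fun s hs => ?_⟩
  · rw [MonoidHom.div_apply, div_eq_one] at hs
    set a := ((χ₁ s : (ZMod p)ˣ) : ZMod p).val with ha
    have e1 : (s : G) * w * (s : G)⁻¹ = w ^ a := (inv_mul_eq_one.1 (Subgroup.mem_bot.1 (h₁ s))).symm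
    obtain ⟨c, hc⟩ := hgenW _ (h₂ s)
    rw [← hs, ← ha] at hc
    have e2 : (s : G) * m * (s : G)⁻¹ = m ^ a * w ^ c := by rw [← hc]; group
    have hcomm : ∀ x ∈ M, ∀ y ∈ M, Commute x y := fun x hx y hy => setLike_mul_comm hx hy
    have iter : ∀ k : ℕ, (s : G) ^ (k + 1) * m * ((s : G) ^ (k + 1))⁻¹ = m ^ (a ^ (k + 1)) * w ^ ((k + 1) * a ^ k * c) := by
      intro k
      induction k with
      | zero => simpa using e2
      | succ k ih =>
        calc (s : G) ^ (k + 1 + 1) * m * ((s : G) ^ (k + 1 + 1))⁻¹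
            = (s : G) * ((s : G) ^ (k + 1) * m * ((s : G) ^ (k + 1))⁻¹) * (s : G)⁻¹ := by
              rw [pow_succ' (s : G) (k + 1)]; group
          _ = ((s : G) * m * (s : G)⁻¹) ^ (a ^ (k + 1)) * ((s : G) * w * (s : G)⁻¹) ^ ((k + 1) * a ^ k * c) := by
              rw [ih, conj_pow, conj_pow]; group
          _ = _ := by
              rw [e1, e2, (hcomm _ (M.pow_mem hm _) _ (M.pow_mem (hWM hw) _)).mul_pow, ← pow_mul, ← pow_mul,
                ← pow_mul, mul_assoc, ← pow_add]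
              congr 1 <;> ring
    obtain ⟨o, ho, hso, hop⟩ : ∃ o : ℕ, 0 < o ∧ (s : G) ^ o ∈ M ∧ ¬ p ∣ o := by
      refine ⟨M.index, Nat.pos_of_ne_zero Subgroup.index_ne_zero_of_finite, ?_, hidx⟩
      rw [← QuotientGroup.eq_one_iff, QuotientGroup.mk_pow]
      rw [Subgroup.index_eq_card]
      exact pow_card_eq_one'
    obtain ⟨k, rfl⟩ : ∃ k, o = k + 1 := ⟨o - 1, by omega⟩
    have h5 : (s : G) ^ (k + 1) * m * ((s : G) ^ (k + 1))⁻¹ = m := by
      rw [(hcomm _ hso m hm).eq, mul_inv_cancel_right]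
    rw [iter] at h5
    -- the linear part is trivial, hence so is the shear
    have h6 : (m ^ (a ^ (k + 1) : ℕ))⁻¹ * m = w ^ ((k + 1) * a ^ k * c) := by
      nth_rewrite 2 [← h5]
      rw [inv_mul_cancel_left]
    have hd : (p : ℤ) ∣ (1 : ℤ) - ((a ^ (k + 1) : ℕ) : ℤ) := by
      by_contra hnd
      obtain ⟨u, v, huv⟩ := ((Nat.prime_iff_prime_int.1 hp.out).coprime_iff_not_dvd.2 hnd).symm
      refine hmW ?_
      have hz : m ^ ((1 : ℤ) - ((a ^ (k + 1) : ℕ) : ℤ)) ∈ W := by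
        rw [_root_.zpow_sub, zpow_one, zpow_natCast, (Commute.self_pow m _).inv_right.eq, h6]
        exact pow_mem hw _
      rw [← zpow_one m, ← huv, _root_.zpow_add, mul_comm u, mul_comm v, zpow_mul, zpow_mul, zpow_natCast, he m hm,
        one_zpow, mul_one]
      exact zpow_mem hz u
    have h7 : (p : ℕ) ∣ (k + 1) * a ^ k * c := by
      obtain ⟨d, hd⟩ := hd
      rw [← hordw]
      refine orderOf_dvd_of_pow_eq_one ?_
      rw [← h6, ← (Commute.self_pow m _).inv_right.eq, ← zpow_natCast m (a ^ (k + 1)), ← zpow_neg, ← zpow_one_add,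
        show (1 : ℤ) + -((a ^ (k + 1) : ℕ) : ℤ) = (p : ℤ) * d by linarith, zpow_mul, zpow_natCast, he m hm, one_zpow]
    have hna : ¬ p ∣ a := fun hd' => by
      have := (ZMod.natCast_eq_zero_iff a p).2 hd'
      rw [ha, ZMod.natCast_zmod_val] at this
      exact Units.ne_zero _ this
    have hcp : p ∣ c := by
      rcases hp.out.dvd_mul.1 h7 with h | h
      · rcases hp.out.dvd_mul.1 h with h | h
        · exact absurd h hop
        · exact absurd (hp.out.dvd_of_dvd_pow h) hna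
      · exact h
    obtain ⟨d, rfl⟩ := hcp
    rw [pow_mul, he w (hWM hw), one_pow, mul_one] at e2
    refine ⟨a, fun x hx => ?_⟩
    obtain ⟨i, hi⟩ := hgenM x hx
    obtain ⟨j, hj⟩ := hgenW _ hi
    have hx' : x = m ^ i * w ^ j := by rw [← hj]; group
    rw [hx', (hcomm _ (M.pow_mem hm _) _ (M.pow_mem (hWM hw) _)).mul_pow, ← pow_mul, ← pow_mul, mul_comm i,
      mul_comm j, pow_mul, pow_mul, ← e1, ← e2, conj_pow, conj_pow]
    group
  · have e1 : χ₁ s = 1 := by
      refine Units.ext ?_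
      by_contra hne
      have h := Subgroup.mem_bot.1 (h₁ s)
      rw [hs w (hWM hw), inv_mul_eq_one] at h
      have hlt : ((χ₁ s : (ZMod p)ˣ) : ZMod p).val < p := ZMod.val_lt _
      have h' := pow_injOn_Iio_orderOf (x := w) (by simpa [hordw] using hlt) (by simpa [hordw] using hp.out.one_lt)
        (show w ^ ((χ₁ s : (ZMod p)ˣ) : ZMod p).val = w ^ 1 by rw [h, pow_one])
      apply hne
      rw [← ZMod.natCast_zmod_val ((χ₁ s : (ZMod p)ˣ) : ZMod p), h', Nat.cast_one, Units.val_one]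
    have e2 : χ₂ s = 1 := by
      refine Units.ext ?_
      have h := h₂ s
      rw [hs m hm] at h
      set v := ((χ₂ s : (ZMod p)ˣ) : ZMod p)
      by_contra hne
      obtain ⟨u', v', huv⟩ := ((Nat.prime_iff_prime_int.1 hp.out).coprime_iff_not_dvd.2 (fun hd : (p : ℤ) ∣ (1 : ℤ) - (v.val : ℤ) => hne (by
        have := (ZMod.intCast_zmod_eq_zero_iff_dvd _ _).2 hd
        push_cast at this
        rw [ZMod.natCast_zmod_val, sub_eq_zero] at this
        rw [Units.val_one]; exact this.symm))).symm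
      refine hmW ?_
      have hz : m ^ ((1 : ℤ) - (v.val : ℤ)) ∈ W := by
        rw [_root_.zpow_sub, zpow_one, zpow_natCast, (Commute.self_pow m _).inv_right.eq]; exact h
      rw [← zpow_one m, ← huv, _root_.zpow_add, mul_comm u', mul_comm v', zpow_mul, zpow_mul, zpow_natCast, he m hm,
        one_zpow, mul_one]
      exact zpow_mem hz u'
    rw [MonoidHom.div_apply, e1, e2, div_one]

end Cfsg.Agent.BGroup
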